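import Cfsg.Agent.PrimeGraphBC.OrthBase
import Cfsg.Agent.LinearElements.OrthPrimePower
import Cfsg.Agent.OrthOrders.Parity

/-!
# Embedded isometry groups, supports and unipotent indices

Isometries supported on nondegenerate subspaces of a quadratic space, used to compare element orders of
orthogonal groups.
-/

set_option autoImplicit false

namespace CfsgLib.OmegaNine

open Matrix Module Submodule CfsgLib.Spinor

variable {F : Type*} [Field F] {ι κ : Type} [Fintype ι] [DecidableEq ι] [Fintype κ] [DecidableEq κ]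
  {Q : QuadraticForm F (ι → F)} {Q' : QuadraticForm F (κ → F)}

/-- An isometry as an endomorphism. -/
def act (Q : QuadraticForm F (ι → F)) : ↥(Cfsg.isometryGroup F ⇑Q) →* Module.End F (ι → F) where
  toFun g := Matrix.toLin' (mat Q g)
  map_one' := by rw [Spinor.mat_one, Matrix.toLin'_one]; rfl
  map_mul' g h := by rw [Spinor.mat_mul, Matrix.toLin'_mul]; rfl

theorem act_apply (g : ↥(Cfsg.isometryGroup F ⇑Q)) (v : ι → F) : act Q g v = mat Q g *ᵥ v :=
  Matrix.toLin'_apply _ _

theorem act_quad (g : ↥(Cfsg.isometryGroup F ⇑Q)) (v : ι → F) : Q (act Q g v) = Q v := by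
  rw [act_apply, quad_mulVec]

theorem act_polar (g : ↥(Cfsg.isometryGroup F ⇑Q)) (x y : ι → F) :
    QuadraticMap.polar (⇑Q) (act Q g x) (act Q g y) = QuadraticMap.polar (⇑Q) x y := by
  rw [act_apply, act_apply, polar_mulVec]

theorem act_injective : Function.Injective (act Q) := fun _ _ h =>
  mat_ext Q (Matrix.toLin'.injective h)

theorem act_ext {g h : ↥(Cfsg.isometryGroup F ⇑Q)} (e : ∀ v, act Q g v = act Q h v) : g = h :=
  act_injective (LinearMap.ext e)

theorem orderOf_act (g : ↥(Cfsg.isometryGroup F ⇑Q)) : orderOf (act Q g) = orderOf g :=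
  orderOf_injective (act Q) act_injective g

theorem act_mul_apply (g h : ↥(Cfsg.isometryGroup F ⇑Q)) (v : ι → F) :
    act Q (g * h) v = act Q g (act Q h v) := by rw [map_mul]; rfl

theorem act_inv_apply (g : ↥(Cfsg.isometryGroup F ⇑Q)) (v : ι → F) : act Q g⁻¹ (act Q g v) = v := by
  rw [← act_mul_apply, inv_mul_cancel, map_one]; rfl

theorem act_pow_fixed {g : ↥(Cfsg.isometryGroup F ⇑Q)} {v : ι → F} (h : act Q g v = v) :
    ∀ k : ℕ, act Q (g ^ k) v = v
  | 0 => by rw [pow_zero, map_one]; rfl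
  | k + 1 => by rw [pow_succ, act_mul_apply, h, act_pow_fixed h k]

theorem exists_iso_of_map (hQ : (QuadraticMap.polarBilin Q).Nondegenerate) (T : Module.End F (ι → F))
    (hT : ∀ v, Q (T v) = Q v) : ∃ g : ↥(Cfsg.isometryGroup F ⇑Q), act Q g = T := by
  have hinj : Function.Injective T := by
    rw [← LinearMap.ker_eq_bot, LinearMap.ker_eq_bot']
    intro v hv
    refine hQ.1 v fun w => ?_
    show QuadraticMap.polar (⇑Q) v w = 0
    have h : QuadraticMap.polar (⇑Q) (T v) (T w) = QuadraticMap.polar (⇑Q) v w := by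
      simp only [QuadraticMap.polar, ← map_add, hT]
    rw [← h, hv, QuadraticMap.polar_zero_left]
  have hu : IsUnit (LinearMap.toMatrixAlgEquiv' T) := (((LinearMap.isUnit_iff_ker_eq_bot T).2
    (LinearMap.ker_eq_bot.2 hinj))).map LinearMap.toMatrixAlgEquiv'
  refine ⟨⟨hu.unit, FieldEmb.mem_isometryGroup.2 fun v => ?_⟩, ?_⟩
  · show Q (LinearMap.toMatrix' T *ᵥ v) = Q v
    rw [LinearMap.toMatrix'_mulVec, hT]
  · show Matrix.toLin' (LinearMap.toMatrix' T) = T
    rw [Matrix.toLin'_toMatrix']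

/-- The isometries fixing every vector orthogonal to `A`. -/
def suppG (Q : QuadraticForm F (ι → F)) (A : Submodule F (ι → F)) : Subgroup ↥(Cfsg.isometryGroup F ⇑Q) where
  carrier := {g | ∀ x, (∀ a ∈ A, QuadraticMap.polar (⇑Q) x a = 0) → act Q g x = x}
  one_mem' := fun x _ => by rw [map_one]; rfl
  mul_mem' := fun {g h} hg hh x hx => by rw [act_mul_apply, hh x hx, hg x hx]
  inv_mem' := fun {g} hg x hx => by
    conv_lhs => rw [← hg x hx, act_inv_apply]

theorem suppG_mono {A B : Submodule F (ι → F)} (h : A ≤ B) : suppG Q A ≤ suppG Q B :=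
  fun _ hg x hx => hg x fun a ha => hx a (h ha)

theorem sub_perp {A : Submodule F (ι → F)} {g : ↥(Cfsg.isometryGroup F ⇑Q)} (hg : g ∈ suppG Q A)
    {z : ι → F} (hz : ∀ a ∈ A, QuadraticMap.polar (⇑Q) z a = 0) (x : ι → F) :
    QuadraticMap.polar (⇑Q) (act Q g x - x) z = 0 := by
  rw [QuadraticMap.polar_sub_left]
  nth_rw 1 [← hg z hz]
  rw [act_polar, sub_self]

theorem supp_mul_apply {A B : Submodule F (ι → F)} {g h : ↥(Cfsg.isometryGroup F ⇑Q)} (hg : g ∈ suppG Q A)
    (hh : h ∈ suppG Q B) (hAB : ∀ a ∈ A, ∀ b ∈ B, QuadraticMap.polar (⇑Q) a b = 0) (x : ι → F) :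
    act Q (g * h) x = act Q g x + (act Q h x - x) := by
  have h1 : act Q g (act Q h x - x) = act Q h x - x := hg _ fun a ha => sub_perp hh (hAB a ha) x
  rw [act_mul_apply]
  conv_lhs => rw [← add_sub_cancel x (act Q h x), map_add, h1]

theorem supp_commute {A B : Submodule F (ι → F)} {g h : ↥(Cfsg.isometryGroup F ⇑Q)} (hg : g ∈ suppG Q A)
    (hh : h ∈ suppG Q B) (hAB : ∀ a ∈ A, ∀ b ∈ B, QuadraticMap.polar (⇑Q) a b = 0) : Commute g h := by
  refine act_ext fun x => ?_
  rw [supp_mul_apply hg hh hAB,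
    supp_mul_apply hh hg fun b hb a ha => (QuadraticMap.polar_comm _ b a).trans (hAB a ha b hb)]
  abel

variable (hQ : (QuadraticMap.polarBilin Q).Nondegenerate)

include hQ

theorem supp_mul_eq_one_iff {A B : Submodule F (ι → F)} {g h : ↥(Cfsg.isometryGroup F ⇑Q)} (hg : g ∈ suppG Q A)
    (hh : h ∈ suppG Q B) (hAB : ∀ a ∈ A, ∀ b ∈ B, QuadraticMap.polar (⇑Q) a b = 0)
    (hsplit : ∀ x, ∃ a ∈ A, ∀ a' ∈ A, QuadraticMap.polar (⇑Q) (x - a) a' = 0) :
    g * h = 1 ↔ g = 1 ∧ h = 1 := by
  refine ⟨fun e => ?_, fun ⟨e1, e2⟩ => by rw [e1, e2, one_mul]⟩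
  have hg1 : g = 1 := act_ext fun x => by
    have hx := supp_mul_apply hg hh hAB x
    rw [e, map_one, Module.End.one_apply] at hx
    rw [map_one, Module.End.one_apply, ← sub_eq_zero]
    set y := act Q g x - x with hy
    have hy' : y = -(act Q h x - x) := by
      have hx' : y + (act Q h x - x) = 0 := by
        rw [hy, sub_add_eq_add_sub, ← hx, sub_self]
      exact eq_neg_of_add_eq_zero_left hx'
    refine hQ.1 y fun z => ?_
    show QuadraticMap.polar (⇑Q) y z = 0
    obtain ⟨a, ha, hza⟩ := hsplit z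
    rw [← add_sub_cancel a z, QuadraticMap.polar_add_right]
    have h1 : QuadraticMap.polar (⇑Q) y (z - a) = 0 := hy ▸ sub_perp hg hza x
    have h2' : QuadraticMap.polar (⇑Q) y a = 0 := by
      rw [hy', QuadraticMap.polar_neg_left, sub_perp hh (hAB a ha) x, neg_zero]
    rw [h1, h2', add_zero]
  exact ⟨hg1, by rwa [hg1, one_mul] at e⟩

theorem orderOf_supp_mul {A B : Submodule F (ι → F)} {g h : ↥(Cfsg.isometryGroup F ⇑Q)} (hg : g ∈ suppG Q A)
    (hh : h ∈ suppG Q B) (hAB : ∀ a ∈ A, ∀ b ∈ B, QuadraticMap.polar (⇑Q) a b = 0)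
    (hsplit : ∀ x, ∃ a ∈ A, ∀ a' ∈ A, QuadraticMap.polar (⇑Q) (x - a) a' = 0) :
    orderOf (g * h) = Nat.lcm (orderOf g) (orderOf h) := by
  have hc := supp_commute hg hh hAB
  refine Nat.dvd_antisymm hc.orderOf_mul_dvd_lcm ?_
  have h1 := pow_orderOf_eq_one (g * h)
  rw [hc.mul_pow, supp_mul_eq_one_iff hQ (pow_mem hg _) (pow_mem hh _) hAB hsplit] at h1
  exact Nat.lcm_dvd (orderOf_dvd_of_pow_eq_one h1.1) (orderOf_dvd_of_pow_eq_one h1.2)

omit hQ

/-- The adjoint projection of an isometric embedding. -/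
theorem exists_adjoint (hQ' : (QuadraticMap.polarBilin Q').Nondegenerate) (I : (κ → F) →ₗ[F] (ι → F))
    (hI : ∀ w, Q (I w) = Q' w) :
    ∃ P : (ι → F) →ₗ[F] (κ → F), (∀ w, P (I w) = w) ∧
      ∀ x w, QuadraticMap.polar (⇑Q) x (I w) = QuadraticMap.polar (⇑Q') (P x) w := by
  let β := LinearMap.BilinForm.toDual (QuadraticMap.polarBilin Q') hQ'
  let P : (ι → F) →ₗ[F] (κ → F) := β.symm.toLinearMap ∘ₗ I.dualMap ∘ₗ (QuadraticMap.polarBilin Q)
  have hP : ∀ x w, QuadraticMap.polar (⇑Q) x (I w) = QuadraticMap.polar (⇑Q') (P x) w := fun x w =>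
    (LinearMap.BilinForm.apply_toDual_symm_apply (B := QuadraticMap.polarBilin Q') (hB := hQ')
      (I.dualMap (QuadraticMap.polarBilin Q x)) w).symm
  refine ⟨P, fun w => ?_, hP⟩
  rw [← sub_eq_zero]
  refine hQ'.1 _ fun z => ?_
  show QuadraticMap.polar (⇑Q') (P (I w) - w) z = 0
  have e : QuadraticMap.polar (⇑Q) (I w) (I z) = QuadraticMap.polar (⇑Q') w z := by
    simp only [QuadraticMap.polar, ← map_add, hI]
  rw [QuadraticMap.polar_sub_left, ← hP, e, sub_self]

/-- An embedding of isometry groups along an isometric map. -/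
structure Emb (Q : QuadraticForm F (ι → F)) (Q' : QuadraticForm F (κ → F)) (I : (κ → F) →ₗ[F] (ι → F)) where
  /-- The homomorphism. -/
  φ : ↥(Cfsg.isometryGroup F ⇑Q') →* ↥(Cfsg.isometryGroup F ⇑Q)
  inj : Function.Injective φ
  apply_I : ∀ k w, act Q (φ k) (I w) = I (act Q' k w)
  supp : ∀ k, φ k ∈ suppG Q (LinearMap.range I)
  mem_omega : ∀ k, φ k ∈ Cfsg.Omega F ⇑Q ↔ k ∈ Cfsg.Omega F ⇑Q'
  det_eq : ∀ k, (mat Q (φ k)).det = (mat Q' k).det
  quad : ∀ w, Q (I w) = Q' w
  split : ∀ x, ∃ a ∈ LinearMap.range I, ∀ a' ∈ LinearMap.range I, QuadraticMap.polar (⇑Q) (x - a) a' = 0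
  preimage : ∀ g ∈ suppG Q (LinearMap.range I), ∃ k, φ k = g

theorem exists_emb [Fintype F] (h2 : (2 : F) ≠ 0) (hQ : (QuadraticMap.polarBilin Q).Nondegenerate)
    (hQ' : (QuadraticMap.polarBilin Q').Nondegenerate) (I : (κ → F) →ₗ[F] (ι → F))
    (hI : ∀ w, Q (I w) = Q' w) : Nonempty (Emb Q Q' I) := by
  obtain ⟨P, hPI, hP⟩ := exists_adjoint hQ' I hI
  obtain ⟨φ, hφ, hφv⟩ := PrimeGraphBC.exists_ext (Q := Q) (Q' := Q') I P 1 hPI
    (fun w => by rw [one_mul, hI]) (fun x w => by rw [one_mul, hP])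
  have hact : ∀ k x, act Q (φ k) x = x + I (act Q' k (P x) - P x) := fun k x => by
    rw [act_apply, hφv, act_apply]
  have hperp : ∀ x, (∀ a ∈ LinearMap.range I, QuadraticMap.polar (⇑Q) x a = 0) → P x = 0 := fun x hx =>
    hQ'.1 _ fun z => by
      show QuadraticMap.polar (⇑Q') (P x) z = 0
      rw [← hP]; exact hx _ (LinearMap.mem_range_self I z)
  have hsplit : ∀ x, ∃ a ∈ LinearMap.range I, ∀ a' ∈ LinearMap.range I,
      QuadraticMap.polar (⇑Q) (x - a) a' = 0 := fun x => ⟨I (P x), LinearMap.mem_range_self I _, by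
    rintro _ ⟨w, rfl⟩
    rw [hP, map_sub, hPI, sub_self, QuadraticMap.polar_zero_left]⟩
  have hrefl : ∀ (vs : List (κ → F)) k, IsReflProd Q' k vs → IsReflProd Q (φ k) (vs.map I) := by
    intro vs
    induction vs with
    | nil =>
      intro k hk
      obtain rfl : k = 1 := mat_ext Q' (hk.2.trans IsReflProd.one.2.symm)
      rw [map_one]; exact IsReflProd.one
    | cons v vs ih =>
      intro k hk
      have hv : Q' v ≠ 0 := hk.1 v List.mem_cons_self
      obtain ⟨k', hk'⟩ := exists_isometry_of_prod (Q := Q') vs fun u hu => hk.1 u (List.mem_cons_of_mem _ hu)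
      obtain rfl : k = reflIso Q' v hv * k' :=
        mat_ext Q' (hk.2.trans ((IsReflProd.reflIso (Q := Q') v hv).mul hk').2.symm)
      have hIv : Q (I v) ≠ 0 := by rwa [hI]
      have e : φ (reflIso Q' v hv) = reflIso Q (I v) hIv := act_ext fun x => by
        rw [hact, act_apply, act_apply, mat_reflIso, mat_reflIso, reflectionMatrix_mulVec,
          reflectionMatrix_mulVec, refl_apply, refl_apply, hI, QuadraticMap.polar_comm (⇑Q) (I v) x, hP,
          QuadraticMap.polar_comm (⇑Q') (P x) v]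
        rw [sub_sub_cancel_left, map_neg, map_smul, sub_eq_add_neg]
      rw [map_mul, e]
      exact (IsReflProd.reflIso _ hIv).mul (ih k' hk')
  refine ⟨⟨φ, hφ, fun k w => ?_, fun k x hx => ?_, fun k => ?_, fun k => ?_, hI, hsplit, fun g hg => ?_⟩⟩
  · rw [hact, hPI, map_sub, add_sub_cancel]
  · rw [hact, hperp x hx, map_zero, sub_zero, map_zero, add_zero]
  · obtain ⟨vs, hvs⟩ := Spinor.exists_isReflProd h2 hQ' k
    rw [mem_omega_iff h2 hQ (hrefl vs k hvs), mem_omega_iff h2 hQ' hvs, List.length_map, List.map_map]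
    simp only [Function.comp_def, hI]
  · obtain ⟨vs, hvs⟩ := Spinor.exists_isReflProd h2 hQ' k
    rw [Forms.det_isReflProd (hrefl vs k hvs), Forms.det_isReflProd hvs, List.length_map]
  · have hIP : ∀ w, I (P (act Q g (I w))) = act Q g (I w) := fun w => by
      rw [← sub_eq_zero]
      refine hQ.1 _ fun z => ?_
      show QuadraticMap.polar (⇑Q) _ z = 0
      obtain ⟨a, ⟨u, rfl⟩, hz⟩ := hsplit z
      rw [← add_sub_cancel (I u) z, QuadraticMap.polar_add_right]
      have h1 : QuadraticMap.polar (⇑Q) (I (P (act Q g (I w))) - act Q g (I w)) (I u) = 0 := by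
        rw [hP, map_sub, hPI, sub_self, QuadraticMap.polar_zero_left]
      have h3 : QuadraticMap.polar (⇑Q) (act Q g (I w)) (z - I u) = 0 := by
        have := sub_perp hg hz (I w)
        rw [QuadraticMap.polar_sub_left, QuadraticMap.polar_comm (⇑Q) (I w),
          hz _ (LinearMap.mem_range_self I w), sub_zero] at this
        exact this
      rw [h1, zero_add, QuadraticMap.polar_sub_left, h3, sub_zero,
        QuadraticMap.polar_comm, hz _ (LinearMap.mem_range_self I _)]
    obtain ⟨k, hk⟩ := exists_iso_of_map hQ' (P ∘ₗ act Q g ∘ₗ I) fun w => by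
      simp only [LinearMap.comp_apply]
      rw [← hI, hIP, act_quad, hI]
    refine ⟨k, act_ext fun x => ?_⟩
    obtain ⟨a, ⟨u, rfl⟩, hx⟩ := hsplit x
    rw [← add_sub_cancel (I u) x, map_add, map_add, hact, hact, hperp _ hx, hg _ hx, hPI, hk, map_zero, sub_zero,
      map_zero, add_zero, map_sub, LinearMap.comp_apply, LinearMap.comp_apply, hIP, add_sub_cancel]

/-- Coordinates on a nondegenerate subspace. -/
theorem exists_coords {W : Submodule F (ι → F)} (hW : QuadType.Sep Q W) {d : ℕ} (hd : finrank F W = d) :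
    ∃ I : (Fin d → F) →ₗ[F] (ι → F), Function.Injective I ∧ LinearMap.range I = W ∧
      (QuadraticMap.polarBilin (Q.comp I)).Nondegenerate := by
  let e := (Module.finBasisOfFinrankEq F W hd).equivFun.symm
  refine ⟨W.subtype ∘ₗ e.toLinearMap, W.subtype_injective.comp e.injective, ?_, ?_⟩
  · rw [LinearMap.range_comp, LinearEquiv.range, Submodule.map_subtype_top]
  · refine StdForms.nondegenerate_of_sep _ fun x hx => ?_
    by_contra hne
    obtain ⟨y, hy, hxy⟩ := hW (e x : W) (e x).2 fun h0 => hne (e.injective (Subtype.ext (by simp [h0])))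
    obtain ⟨y', hy'⟩ := e.surjective ⟨y, hy⟩
    refine hxy ?_
    have h := hx y'
    simp only [QuadraticMap.polar, QuadraticMap.comp_apply, LinearMap.comp_apply, map_add] at h
    rw [QuadraticMap.polarBilin_apply_apply, QuadraticMap.polar,
      show y = ((e y' : W) : ι → F) by rw [hy']]
    exact h

/-- A fixed-point-free isometry has determinant `(-1) ^ dim`. -/
theorem det_eq_of_no_fixed (hQ : (QuadraticMap.polarBilin Q).Nondegenerate)
    {g : ↥(Cfsg.isometryGroup F ⇑Q)} (h : ∀ v, act Q g v = v → v = 0) :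
    (mat Q g).det = (-1 : F) ^ Fintype.card ι := by
  set G := mat Q g with hG
  have h1 : Gᵀ * FormDiscr.gram Q * (G - 1) = -((G - 1)ᵀ * FormDiscr.gram Q) := by
    rw [mul_sub, hG, PrimeGraphBC.form_mat, mul_one, transpose_sub, transpose_one, sub_mul, one_mul, neg_sub]
  have h3 := congrArg Matrix.det h1
  rw [det_neg, det_mul, det_mul, det_mul, det_transpose, det_transpose] at h3
  have hne : (G - 1).det ≠ 0 := fun h0 => by
    obtain ⟨u, hu0, hu⟩ := Matrix.exists_mulVec_eq_zero_iff.2 h0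
    rw [sub_mulVec, one_mulVec, sub_eq_zero] at hu
    exact hu0 (h u (by rw [act_apply, ← hG, hu]))
  exact mul_right_cancel₀ (mul_ne_zero (FormDiscr.gram_det_ne_zero Q hQ) hne) (by linear_combination h3)

/-- Invariant subspaces are at least as large as the longest nilpotent chain inside them. -/
theorem chain_le_finrank {V : Type*} [AddCommGroup V] [Module F V] [FiniteDimensional F V]
    {N : Module.End F V} {Y : Submodule F V} (hY : ∀ y ∈ Y, N y ∈ Y) {j C : ℕ} {z : V} (hz : z ∈ Y)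
    (hj : (N ^ j) z ≠ 0) (hC : ∀ y ∈ Y, (N ^ C) y = 0) :
    j + 1 ≤ finrank F Y ∧ j ≤ finrank F (Y.map N) := by
  have hle : ∀ i, Y.map (N ^ (i + 1)) ≤ Y.map (N ^ i) := fun i => by
    rintro _ ⟨y, hy, rfl⟩
    exact ⟨N y, hY y hy, by rw [pow_succ]; rfl⟩
  have hlt : ∀ i ≤ j, finrank F (Y.map (N ^ (i + 1))) < finrank F (Y.map (N ^ i)) := by
    intro i hi
    refine Submodule.finrank_lt_finrank_of_lt (lt_of_le_of_ne (hle i) fun e => hj ?_)
    have hstab : ∀ l, Y.map (N ^ (i + l)) = Y.map (N ^ i) := by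
      intro l
      induction l with
      | zero => rfl
      | succ l ih =>
        rw [← add_assoc, pow_succ', Module.End.mul_eq_comp, Submodule.map_comp, ih, ← Submodule.map_comp,
          ← Module.End.mul_eq_comp, ← pow_succ', e]
    have h0 : Y.map (N ^ (i + C)) = ⊥ := (Submodule.eq_bot_iff _).2 (by
      rintro _ ⟨y, hy, rfl⟩
      rw [pow_add, Module.End.mul_apply, hC y hy, map_zero])
    rw [hstab] at h0
    have hzi : (N ^ i) z = 0 := (Submodule.eq_bot_iff _).1 h0 _ ⟨z, hz, rfl⟩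
    rw [← Nat.sub_add_cancel hi, pow_add, Module.End.mul_apply, hzi, map_zero]
  have hge : ∀ l i, i + l = j + 1 → l ≤ finrank F (Y.map (N ^ i)) := by
    intro l
    induction l with
    | zero => intro i _; omega
    | succ l ih =>
      intro i hi
      have := ih (i + 1) (by omega)
      have := hlt i (by omega)
      omega
  refine ⟨?_, ?_⟩
  · have := hge (j + 1) 0 (by omega)
    rwa [pow_zero, Module.End.one_eq_id, Submodule.map_id] at this
  · have := hge j 1 (by omega)
    rwa [pow_one] at this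

/-- A unipotent isometry in even dimension `d` satisfies `(T - 1) ^ (d - 1) = 0`. -/
theorem nil_index (h2 : (2 : F) ≠ 0) (hQ : (QuadraticMap.polarBilin Q).Nondegenerate) {d : ℕ}
    (hd : Fintype.card ι = d) (hev : Even d) (hd0 : 0 < d) {g : ↥(Cfsg.isometryGroup F ⇑Q)}
    (hnil : IsNilpotent (act Q g - 1)) : (act Q g - 1) ^ (d - 1) = 0 := by
  set T := act Q g with hT
  set S := act Q g⁻¹ with hS
  set N := T - 1 with hN
  have hST : S * T = 1 := by rw [hS, hT, ← map_mul, inv_mul_cancel, map_one]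
  have hTS : T * S = 1 := by rw [hS, hT, ← map_mul, mul_inv_cancel, map_one]
  have hadj : ∀ x y, QuadraticMap.polar (⇑Q) (N x) y = QuadraticMap.polar (⇑Q) x ((-(S * N)) y) := by
    intro x y
    have e : QuadraticMap.polar (⇑Q) (T x) y = QuadraticMap.polar (⇑Q) x (S y) := by
      conv_lhs => rw [show y = T (S y) from (LinearMap.congr_fun hTS y).symm]
      rw [hT, act_polar]
    have hneg : -(S * N) = S - 1 := by rw [hN, mul_sub, hST, mul_one, neg_sub]
    rw [hneg, hN, LinearMap.sub_apply, LinearMap.sub_apply, QuadraticMap.polar_sub_left,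
      QuadraticMap.polar_sub_right, e]
    rfl
  have hadjP : ∀ i x y, QuadraticMap.polar (⇑Q) ((N ^ i) x) y =
      QuadraticMap.polar (⇑Q) x (((-(S * N)) ^ i) y) := by
    intro i
    induction i with
    | zero => intros; rfl
    | succ i ih =>
      intro x y
      rw [pow_succ', Module.End.mul_apply, hadj, ih, ← Module.End.mul_apply, ← pow_succ]
  have hNd : N ^ d = 0 := by
    have h := (LinearMap.isNilpotent_iff_charpoly N).mp hnil
    have h0 := N.aeval_self_charpoly
    rwa [h, map_pow, Polynomial.aeval_X, Module.finrank_fintype_fun_eq_card, hd] at h0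
  obtain ⟨j, rfl⟩ : ∃ j, d = j + 1 := ⟨d - 1, by omega⟩
  rw [Nat.add_sub_cancel]
  have hjodd : Odd j := by
    obtain ⟨i, hi⟩ := hev
    exact ⟨i - 1, by omega⟩
  have hcomm : Commute S N := by
    show S * N = N * S
    rw [hN, mul_sub, sub_mul, hST, hTS, mul_one, one_mul]
  have hSN : S * N ^ j = N ^ j := by
    have h1 : (S - 1) * N ^ j = 0 := by
      rw [show S - 1 = (-1 : F) • (S * N) by rw [hN, mul_sub, hST, mul_one]; module, smul_mul_assoc,
        mul_assoc, ← pow_succ', hNd, mul_zero, smul_zero]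
    rwa [sub_mul, one_mul, sub_eq_zero] at h1
  have hSNj : ∀ i, S ^ i * N ^ j = N ^ j := fun i => by
    induction i with
    | zero => rw [pow_zero, one_mul]
    | succ i ih => rw [pow_succ, mul_assoc, hSN, ih]
  have hskew : ∀ x y, QuadraticMap.polar (⇑Q) ((N ^ j) x) y =
      - QuadraticMap.polar (⇑Q) x ((N ^ j) y) := by
    intro x y
    rw [hadjP, show -(S * N) = (-1 : F) • (S * N) by module, smul_pow, hjodd.neg_one_pow,
      hcomm.mul_pow, hSNj, neg_one_smul, LinearMap.neg_apply, QuadraticMap.polar_neg_right]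
  by_contra hne
  obtain ⟨x, hx⟩ : ∃ x, (N ^ j) x ≠ 0 := by
    by_contra hall
    push Not at hall
    exact hne (LinearMap.ext hall)
  have hdim := (chain_le_finrank (N := N) (Y := ⊤) (fun _ _ => trivial) (z := x) trivial hx
    (C := j + 1) fun y _ => by rw [hNd]; rfl).2
  rw [Submodule.map_top] at hdim
  have hxR : x ∉ LinearMap.range N := by
    rintro ⟨w, rfl⟩
    refine hx ?_
    rw [← Module.End.mul_apply, ← pow_succ, hNd]; rfl
  have htop : LinearMap.range N ⊔ span F {x} = ⊤ := by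
    refine Submodule.eq_top_of_finrank_eq (le_antisymm (Submodule.finrank_le _) ?_)
    rw [Module.finrank_fintype_fun_eq_card, hd]
    have hlt : LinearMap.range N < LinearMap.range N ⊔ span F {x} :=
      lt_of_le_of_ne le_sup_left fun e => hxR (e ▸ (le_sup_right : span F {x} ≤ _) (mem_span_singleton_self x))
    have := Submodule.finrank_lt_finrank_of_lt hlt
    omega
  refine hx (hQ.1 _ fun z => ?_)
  show QuadraticMap.polar (⇑Q) ((N ^ j) x) z = 0
  obtain ⟨_, ⟨w, rfl⟩, s, hs, rfl⟩ := Submodule.mem_sup.1 (htop ▸ Submodule.mem_top (x := z))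
  obtain ⟨c, rfl⟩ := mem_span_singleton.1 hs
  have h0 : QuadraticMap.polar (⇑Q) ((N ^ j) x) x = 0 := by
    have h1 := hskew x x
    rw [QuadraticMap.polar_comm (⇑Q) x, eq_neg_iff_add_eq_zero, ← two_mul] at h1
    exact (mul_eq_zero.1 h1).resolve_left h2
  have h1 : QuadraticMap.polar (⇑Q) ((N ^ j) x) (N w) = 0 := by
    rw [hskew, ← Module.End.mul_apply, ← pow_succ, hNd, LinearMap.zero_apply,
      QuadraticMap.polar_zero_right, neg_zero]
  rw [QuadraticMap.polar_add_right, h1, QuadraticMap.polar_smul_right, h0, smul_zero, add_zero]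

end CfsgLib.OmegaNine
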