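import Cfsg.Agent.OmegaNineSpectrum.Roots

/-!
# The possible eigenvalue patterns in dimension nine
-/

set_option autoImplicit false

namespace CfsgLib.OmegaNine

variable {K : Type*} [Field K] [DecidableEq K] {S : Multiset K} {q : ℕ}

/-- One class of size eight. -/
def Big (S : Multiset K) (q : ℕ) : Prop :=
  ∃ C : Cls S q, C.k = 4 ∧ C.μ = 1 ∧ ∀ x ∈ S, x = 1 ∨ x ∈ C.T

/-- The element orders `L * p ^ c` needed. -/
def IsTarget (p q L c : ℕ) : Prop :=
  (c = 0 ∧ (L = Nat.lcm (q ^ 2 + 1) (q ^ 2 - 1) ∨ L = Nat.lcm (q ^ 3 - 1) (q + 1) ∨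
    L = Nat.lcm (q ^ 3 + 1) (q - 1))) ∨
  (c = 1 ∧ (L = Nat.lcm (q ^ 2 + 1) (q - 1) ∨ L = Nat.lcm (q ^ 2 + 1) (q + 1) ∨ L = q ^ 2 - 1)) ∨
  (c = 2 ∧ p = 3 ∧ L = (q ^ 2 - 1) / 2) ∨ (c = 2 ∧ p = 5 ∧ L = 2)

theorem Spec.sum_le (H : Spec S q) (U : Finset K) : ∑ y ∈ U, S.count y ≤ 9 := by
  have h1 : ∑ y ∈ U, S.count y = ∑ y ∈ U.filter (· ∈ S), S.count y :=
    (Finset.sum_filter_of_ne fun y _ hy => Multiset.count_pos.1 (Nat.pos_of_ne_zero hy)).symm
  rw [h1, ← H.card9, ← Multiset.toFinset_sum_count_eq S]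
  exact Finset.sum_le_sum_of_subset fun y hy => Multiset.mem_toFinset.2 (Finset.mem_filter.1 hy).2

theorem Cls.sum_eq (C : Cls S q) : ∑ y ∈ C.T, S.count y = 2 * C.k * C.μ := by
  rw [Finset.sum_congr rfl C.count_eq, Finset.sum_const, C.card_T, smul_eq_mul]

theorem Cls.disjoint (C D : Cls S q) {y : K} (hy : y ∈ D.T) (hy' : y ∉ C.T) : Disjoint C.T D.T := by
  rw [Finset.disjoint_left]
  intro z hz hz'
  exact hy' (D.orbit C.T C.closed C.closed' z hz' hz hy)

variable (H : Spec S q) (hq : Odd q) (hq3 : 3 ≤ q) (hneg1 : (-1 : K) ≠ 1) (hone : 1 ≤ S.count 1)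

include H hneg1 hone

theorem weight_one (C : Cls S q) : 1 + S.count (-1) + 2 * C.k * C.μ ≤ 9 := by
  have hd : Disjoint ({1, -1} : Finset K) C.T := Finset.disjoint_left.2 fun z hz hz' => by
    rcases Finset.mem_insert.1 hz with rfl | hz
    · exact (C.ne_pm _ hz').1 rfl
    · exact (C.ne_pm _ hz').2 (Finset.mem_singleton.1 hz)
  have h := H.sum_le ({1, -1} ∪ C.T)
  rw [Finset.sum_union hd, Finset.sum_pair hneg1.symm, C.sum_eq] at h
  omega

theorem weight_two (C D : Cls S q) {y : K} (hy : y ∈ D.T) (hy' : y ∉ C.T) :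
    1 + S.count (-1) + 2 * C.k * C.μ + 2 * D.k * D.μ ≤ 9 := by
  have hd : ∀ E : Cls S q, Disjoint ({1, -1} : Finset K) E.T := fun E => Finset.disjoint_left.2 fun z hz hz' => by
    rcases Finset.mem_insert.1 hz with rfl | hz
    · exact (E.ne_pm _ hz').1 rfl
    · exact (E.ne_pm _ hz').2 (Finset.mem_singleton.1 hz)
  have h := H.sum_le ({1, -1} ∪ C.T ∪ D.T)
  rw [Finset.sum_union (Finset.disjoint_union_left.2 ⟨hd D, C.disjoint D hy hy'⟩), Finset.sum_union (hd C),
    Finset.sum_pair hneg1.symm, C.sum_eq, D.sum_eq] at h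
  omega

theorem weight_two_outside (C D : Cls S q) {y z : K} (hy : y ∈ D.T) (hy' : y ∉ C.T) (hz : z ∈ S)
    (hz1 : z ≠ 1) (hzn : z ≠ -1) (hzC : z ∉ C.T) (hzD : z ∉ D.T) :
    2 + S.count (-1) + 2 * C.k * C.μ + 2 * D.k * D.μ ≤ 9 := by
  have hd : ∀ E : Cls S q, Disjoint ({1, -1} : Finset K) E.T := fun E => Finset.disjoint_left.2 fun w hw hw' => by
    rcases Finset.mem_insert.1 hw with rfl | hw
    · exact (E.ne_pm _ hw').1 rfl
    · exact (E.ne_pm _ hw').2 (Finset.mem_singleton.1 hw)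
  have h := H.sum_le (insert z ({1, -1} ∪ C.T ∪ D.T))
  rw [Finset.sum_insert (by simp [hz1, hzn, hzC, hzD]),
    Finset.sum_union (Finset.disjoint_union_left.2 ⟨hd D, C.disjoint D hy hy'⟩), Finset.sum_union (hd C),
    Finset.sum_pair hneg1.symm, C.sum_eq, D.sum_eq] at h
  have := Multiset.one_le_count_iff_mem.2 hz
  omega

omit H hneg1 hone in
theorem pow_one_of_dvd {x : K} {a b : ℕ} (h : x ^ a = 1) (hab : a ∣ b) : x ^ b = 1 := by
  obtain ⟨c, rfl⟩ := hab
  rw [pow_mul, h, one_pow]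

include hq hq3

/-- The eigenvalue patterns. -/
theorem classify {p : ℕ} (hpp : p.Prime) (hp2 : p ≠ 2) {d : ℕ} (hd : Even d) (hdc : d ≤ S.count (-1)) :
    Big S q ∨ ∃ L c m, IsTarget p q L c ∧ 1 ≤ m ∧ m ≤ p ^ c ∧ d ≤ m + 1 ∧
      (∀ x ∈ S, x ≠ 1 → x ≠ -1 → S.count x ≤ m) ∧ ∀ x ∈ S, x ^ L = 1 := by
  classical
  have hp3 : 3 ≤ p := by have := hpp.two_le; omega
  obtain ⟨r, hr⟩ := hq
  have hq2 : q ^ 2 - 1 = 4 * (r * (r + 1)) := by rw [hr]; simp [show (2 * r + 1) ^ 2 = 4 * (r * (r + 1)) + 1 by ring]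
  have e1 : q - 1 = 2 * r := by omega
  have e2 : q + 1 = 2 * (r + 1) := by omega
  have hm1 : q - 1 ∣ q ^ 2 - 1 := by rw [e1, hq2]; exact ⟨2 * (r + 1), by ring⟩
  have hp1 : q + 1 ∣ q ^ 2 - 1 := by rw [e2, hq2]; exact ⟨2 * r, by ring⟩
  have he2 : 2 ∣ q ^ 2 - 1 := by rw [hq2]; exact ⟨2 * (r * (r + 1)), by ring⟩
  have hhalf : (q ^ 2 - 1) / 2 = 2 * (r * (r + 1)) := by omega
  have hexp1 : ∀ (E : Cls S q), E.k = 1 → expnt q E.k E.ε ∣ (q ^ 2 - 1) / 2 := fun E hE => by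
    rw [hhalf, expnt, hE, pow_one]
    cases E.ε
    · rw [cond_false, e2]; exact ⟨r, by ring⟩
    · rw [cond_true, e1]; exact ⟨r + 1, by ring⟩
  have hexp2 : ∀ (E : Cls S q), E.k = 1 → expnt q E.k E.ε ∣ q ^ 2 - 1 := fun E hE =>
    (hexp1 E hE).trans ⟨2, by omega⟩
  have key : ∀ L, (∀ (E : Cls S q), ∀ y ∈ E.T, y ^ L = 1) → 2 ∣ L → ∀ x ∈ S, x ^ L = 1 := fun L hE hL x hx => by
    by_cases h1 : x = 1
    · rw [h1, one_pow]
    by_cases hn : x = -1
    · rw [hn]; obtain ⟨t, rfl⟩ := hL; rw [pow_mul, neg_one_sq, one_pow]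
    obtain ⟨E, hxE⟩ := H.exists_cls (by omega) hx h1 hn
    exact hE E x hxE
  have mult : ∀ m, (∀ E : Cls S q, E.μ ≤ m) → ∀ x ∈ S, x ≠ 1 → x ≠ -1 → S.count x ≤ m :=
    fun m hE x hx h1 hn => by
      obtain ⟨E, hxE⟩ := H.exists_cls (by omega) hx h1 hn
      rw [E.count_eq x hxE]; exact hE E
  by_cases hbig : ∃ C : Cls S q, 3 ≤ C.k
  · obtain ⟨C, hC3⟩ := hbig
    have w := weight_one H hneg1 hone C
    have hCμ : C.μ = 1 := by
      by_contra hne
      have : 2 ≤ C.μ := by have := C.hμ; omega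
      have : 2 * 3 * 2 ≤ 2 * C.k * C.μ := Nat.mul_le_mul (Nat.mul_le_mul le_rfl hC3) this
      omega
    rw [hCμ, mul_one] at w
    rcases (show C.k = 3 ∨ C.k = 4 by omega) with hk | hk
    · right
      have hrest : ∀ (E : Cls S q) y, y ∈ E.T → y ∉ C.T → E.k = 1 ∧ E.μ = 1 := fun E y hy hy' => by
        have w2 := weight_two H hneg1 hone C E hy hy'
        rw [hCμ, mul_one, hk] at w2
        have h3 : 2 * E.k * E.μ ≤ 2 := by omega
        have := E.hk
        have := E.hμ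
        constructor <;> nlinarith
      have hμ : ∀ E : Cls S q, E.μ ≤ 1 := fun E => by
        obtain ⟨y, hy⟩ : ∃ y, y ∈ E.T := Finset.card_pos.1 (by rw [E.card_T]; have := E.hk; omega)
        by_cases hy' : y ∈ C.T
        · rw [← E.count_eq y hy, C.count_eq y hy', hCμ]
        · exact (hrest E y hy hy').2.le
      have hodd3 : q + 1 ∣ q ^ 3 + 1 := by
        simpa using Odd.nat_add_dvd_pow_add_pow q 1 (show Odd 3 by decide)
      have hm3 : q - 1 ∣ q ^ 3 - 1 := by simpa using Nat.sub_dvd_pow_sub_pow q 1 3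
      cases hε : C.ε
      · refine ⟨_, 0, 1, Or.inl ⟨rfl, Or.inr (Or.inr rfl)⟩, le_rfl, by simp, by omega, mult 1 hμ,
          key _ (fun E y hy => ?_) ?_⟩
        · by_cases hy' : y ∈ C.T
          · refine pow_one_of_dvd (C.exp_eq y hy') ?_
            rw [expnt, hε, cond_false, hk]; exact Nat.dvd_lcm_left _ _
          · refine pow_one_of_dvd (E.exp_eq y hy) ?_
            rw [expnt, (hrest E y hy hy').1, pow_one]
            cases E.ε
            · exact hodd3.trans (Nat.dvd_lcm_left _ _)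
            · exact Nat.dvd_lcm_right _ _
        · exact (Dvd.intro r (by omega) : 2 ∣ q - 1).trans (Nat.dvd_lcm_right _ _)
      · refine ⟨_, 0, 1, Or.inl ⟨rfl, Or.inr (Or.inl rfl)⟩, le_rfl, by simp, by omega, mult 1 hμ,
          key _ (fun E y hy => ?_) ?_⟩
        · by_cases hy' : y ∈ C.T
          · refine pow_one_of_dvd (C.exp_eq y hy') ?_
            rw [expnt, hε, cond_true, hk]; exact Nat.dvd_lcm_left _ _
          · refine pow_one_of_dvd (E.exp_eq y hy) ?_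
            rw [expnt, (hrest E y hy hy').1, pow_one]
            cases E.ε
            · exact Nat.dvd_lcm_right _ _
            · exact hm3.trans (Nat.dvd_lcm_left _ _)
        · exact (Dvd.intro (r + 1) (by omega) : 2 ∣ q + 1).trans (Nat.dvd_lcm_right _ _)
    · left
      refine ⟨C, hk, hCμ, fun x hx => ?_⟩
      by_contra hnot
      push Not at hnot
      by_cases hn : x = -1
      · subst hn
        have := Multiset.one_le_count_iff_mem.2 hx
        omega
      obtain ⟨E, hxE⟩ := H.exists_cls (by omega) hx hnot.1 hn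
      have w2 := weight_two H hneg1 hone C E hxE hnot.2
      rw [hCμ, mul_one, hk] at w2
      have := E.hk
      have := E.hμ
      nlinarith
  push Not at hbig
  right
  have hk2 : ∀ E : Cls S q, E.k = 1 ∨ E.k = 2 := fun E => by have := hbig E; have := E.hk; omega
  by_cases hsq : (∀ E : Cls S q, E.μ ≤ 1) ∧ d ≤ 2
  · refine ⟨_, 0, 1, Or.inl ⟨rfl, Or.inl rfl⟩, le_rfl, by simp, hsq.2, mult 1 hsq.1,
      key _ (fun E y hy => ?_) (he2.trans (Nat.dvd_lcm_right _ _))⟩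
    refine pow_one_of_dvd (E.exp_eq y hy) ?_
    rcases hk2 E with hk | hk
    · exact (hexp2 E hk).trans (Nat.dvd_lcm_right _ _)
    · rw [expnt, hk]
      cases E.ε
      · exact Nat.dvd_lcm_left _ _
      · exact Nat.dvd_lcm_right _ _
  by_cases hplus : ∃ C : Cls S q, C.k = 2 ∧ C.ε = false
  · obtain ⟨C, hk, hε⟩ := hplus
    have w := weight_one H hneg1 hone C
    rw [hk] at w
    have hμC := C.hμ
    have hCexp : expnt q C.k C.ε = q ^ 2 + 1 := by rw [expnt, hε, hk, cond_false]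
    have hq21 : 2 ∣ q ^ 2 + 1 := ⟨2 * (r * (r + 1)) + 1, by
      have := Nat.one_le_pow 2 q (by omega); omega⟩
    by_cases hall : ∀ (E : Cls S q) y, y ∈ E.T → y ∈ C.T
    · refine ⟨_, 1, 3, Or.inr (Or.inl ⟨rfl, Or.inr (Or.inl rfl)⟩), by norm_num, by rw [pow_one]; exact hp3,
        by omega, mult 3 (fun E => ?_), key _ (fun E y hy => ?_) (hq21.trans (Nat.dvd_lcm_left _ _))⟩
      · obtain ⟨y, hy⟩ : ∃ y, y ∈ E.T := Finset.card_pos.1 (by rw [E.card_T]; have := E.hk; omega)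
        rw [← E.count_eq y hy, C.count_eq y (hall E y hy)]; omega
      · exact pow_one_of_dvd (C.exp_eq y (hall E y hy)) (hCexp ▸ Nat.dvd_lcm_left _ _)
    push Not at hall
    obtain ⟨E₀, y₀, hy₀, hy₀'⟩ := hall
    have w0 := weight_two H hneg1 hone C E₀ hy₀ hy₀'
    rw [hk] at w0
    have h0pos : 2 ≤ 2 * E₀.k * E₀.μ := by
      have := E₀.hk; have := E₀.hμ; nlinarith
    have hC1 : C.μ = 1 := by omega
    -- a class of multiplicity at least two outside `C`
    have hd2 : ¬ 4 ≤ d := fun h => by omega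
    obtain ⟨D, hD⟩ : ∃ D : Cls S q, 2 ≤ D.μ := by
      by_contra hno
      push Not at hno
      exact hsq ⟨fun E => Nat.le_of_lt_succ (hno E), by obtain ⟨t, ht⟩ := hd; omega⟩
    obtain ⟨z, hz⟩ : ∃ z, z ∈ D.T := Finset.card_pos.1 (by rw [D.card_T]; have := D.hk; omega)
    have hz' : z ∉ C.T := fun hzC => by
      rw [← D.count_eq z hz, C.count_eq z hzC] at hD; omega
    have w2 := weight_two H hneg1 hone C D hz hz'
    rw [hk, hC1, mul_one] at w2
    have hDk : D.k = 1 := by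
      rcases hk2 D with h | h
      · exact h
      · rw [h] at w2; omega
    rw [hDk, mul_one] at w2
    have hDμ : D.μ = 2 := by omega
    have hcov : ∀ (E : Cls S q) y, y ∈ E.T → y ∈ C.T ∨ y ∈ D.T := fun E y hy => by
      by_contra hno
      push Not at hno
      have hyS : y ∈ S := Multiset.count_pos.1 (by rw [E.count_eq y hy]; exact E.hμ)
      have := weight_two_outside H hneg1 hone C D hz hz' hyS (E.ne_pm y hy).1 (E.ne_pm y hy).2 hno.1 hno.2
      rw [hk, hC1, hDk, hDμ] at this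
      omega
    have hμ : ∀ E : Cls S q, E.μ ≤ 2 := fun E => by
      obtain ⟨y, hy⟩ : ∃ y, y ∈ E.T := Finset.card_pos.1 (by rw [E.card_T]; have := E.hk; omega)
      rcases hcov E y hy with h | h
      · rw [← E.count_eq y hy, C.count_eq y h]; omega
      · rw [← E.count_eq y hy, D.count_eq y h]; omega
    cases hDε : D.ε
    · refine ⟨_, 1, 2, Or.inr (Or.inl ⟨rfl, Or.inr (Or.inl rfl)⟩), by norm_num, by rw [pow_one]; omega,
        by omega, mult 2 hμ, key _ (fun E y hy => ?_) (hq21.trans (Nat.dvd_lcm_left _ _))⟩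
      rcases hcov E y hy with h | h
      · exact pow_one_of_dvd (C.exp_eq y h) (hCexp ▸ Nat.dvd_lcm_left _ _)
      · refine pow_one_of_dvd (D.exp_eq y h) ?_
        rw [expnt, hDε, hDk, cond_false, pow_one]; exact Nat.dvd_lcm_right _ _
    · refine ⟨_, 1, 2, Or.inr (Or.inl ⟨rfl, Or.inl rfl⟩), by norm_num, by rw [pow_one]; omega,
        by omega, mult 2 hμ, key _ (fun E y hy => ?_) (hq21.trans (Nat.dvd_lcm_left _ _))⟩
      rcases hcov E y hy with h | h
      · exact pow_one_of_dvd (C.exp_eq y h) (hCexp ▸ Nat.dvd_lcm_left _ _)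
      · refine pow_one_of_dvd (D.exp_eq y h) ?_
        rw [expnt, hDε, hDk, cond_true, pow_one]; exact Nat.dvd_lcm_right _ _
  push Not at hplus
  have hL : ∀ x ∈ S, x ^ (q ^ 2 - 1) = 1 := key _ (fun E y hy => pow_one_of_dvd (E.exp_eq y hy) (by
    rcases hk2 E with h | h
    · exact hexp2 E h
    · rw [expnt, h, Bool.eq_true_of_not_eq_false (hplus E h), cond_true])) he2
  by_cases hsmall : (∀ E : Cls S q, E.μ ≤ p) ∧ d ≤ p + 1
  · exact ⟨_, 1, p, Or.inr (Or.inl ⟨rfl, Or.inr (Or.inr rfl)⟩), by omega, by rw [pow_one], hsmall.2,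
      mult p hsmall.1, hL⟩
  have hμ4 : ∀ E : Cls S q, E.μ ≤ 4 ∧ (2 ≤ E.k → E.μ ≤ 2) ∧ 2 * E.k * E.μ + d ≤ 8 := fun E => by
    have w := weight_one H hneg1 hone E
    rcases hk2 E with h | h <;> rw [h] at w ⊢ <;> omega
  have hbad : (∃ D : Cls S q, 4 ≤ D.μ) ∨ p + 2 ≤ d := by
    by_contra hno
    push Not at hno
    exact hsmall ⟨fun E => by have := hno.1 E; omega, by omega⟩
  have hk1 : ∀ E : Cls S q, E.k = 1 := fun E => by
    rcases hk2 E with h | h
    · exact h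
    exfalso
    obtain ⟨-, hE2, hEd⟩ := hμ4 E
    have := E.hμ
    rcases hbad with ⟨D, hD⟩ | hdbig
    · obtain ⟨z, hz⟩ : ∃ z, z ∈ D.T := Finset.card_pos.1 (by rw [D.card_T]; have := D.hk; omega)
      have hz' : z ∉ E.T := fun hzE => by
        rw [← D.count_eq z hz, E.count_eq z hzE] at hD
        have := hE2 (by omega); omega
      have w2 := weight_two H hneg1 hone E D hz hz'
      rw [h] at w2
      rcases hk2 D with hD1 | hD1 <;> rw [hD1] at w2 <;> omega
    · rw [h] at hEd; obtain ⟨t, ht⟩ := hd; omega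
  have hLh : ∀ x ∈ S, x ^ ((q ^ 2 - 1) / 2) = 1 :=
    key _ (fun E y hy => pow_one_of_dvd (E.exp_eq y hy) (hexp1 E (hk1 E))) ⟨r * (r + 1), hhalf⟩
  have hd8 : d ≤ 8 := by
    have h := H.sum_le {1, -1}
    rw [Finset.sum_pair hneg1.symm] at h
    omega
  rcases (show p = 3 ∨ 5 ≤ p by
    rcases (show p = 3 ∨ p = 4 ∨ 5 ≤ p by omega) with h | h | h
    · exact Or.inl h
    · subst h; exact absurd hpp (by decide)
    · exact Or.inr h) with rfl | hp5
  · exact ⟨_, 2, 8, Or.inr (Or.inr (Or.inl ⟨rfl, rfl, rfl⟩)), by norm_num, by norm_num, by omega,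
      mult 8 fun E => by have := (hμ4 E).1; omega, hLh⟩
  · have hnoD : ∀ E : Cls S q, E.μ ≤ p := fun E => by have := (hμ4 E).1; omega
    have hdbig : p + 2 ≤ d := by
      by_contra hh
      exact hsmall ⟨hnoD, by omega⟩
    obtain ⟨t, ht⟩ := hd
    have hd_eq : d = 8 := by omega
    have hp : p = 5 := by
      rcases (show p = 5 ∨ p = 6 by omega) with h | h
      · exact h
      · subst h; exact absurd hpp (by decide)
    refine ⟨2, 2, 7, Or.inr (Or.inr (Or.inr ⟨rfl, hp, rfl⟩)), by norm_num, by rw [hp]; norm_num, by omega,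
      mult 7 fun E => by have := (hμ4 E).1; omega, key 2 (fun E y hy => ?_) dvd_rfl⟩
    have := (hμ4 E).2.2
    have := E.hk; have := E.hμ
    nlinarith

end CfsgLib.OmegaNine
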