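import Cfsg.Agent.OmegaNineSpectrum.Basic

/-!
# Freely acting isometries and the sign of their action on vectors of a given value
-/

set_option autoImplicit false

namespace CfsgLib.OmegaNine

open Matrix Module CfsgLib.Spinor

theorem perm_free {α : Type*} [Fintype α] [DecidableEq α] (π : Equiv.Perm α) {N : ℕ} (hN : 0 < N)
    (hπN : π ^ N = 1) (hfree : ∀ x l, (π ^ l) x = x → N ∣ l) :
    ∃ k, Nat.card α = N * k ∧ (Even N → Equiv.Perm.sign π = (-1) ^ k) := by
  rcases (show N = 1 ∨ 2 ≤ N by omega) with rfl | h2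
  · exact ⟨Nat.card α, (one_mul _).symm, fun h => absurd h Nat.not_even_one⟩
  have hsupp : π.support = Finset.univ := Finset.eq_univ_of_forall fun x => Equiv.Perm.mem_support.2 fun hx => by
    have := Nat.le_of_dvd one_pos (hfree x 1 (by rwa [pow_one]))
    omega
  have hct : π.cycleType = Multiset.replicate π.cycleType.card N := by
    refine Multiset.eq_replicate_card.mpr fun l hl => ?_
    obtain ⟨c, τ, hπ, hd, hc, rfl⟩ := Equiv.Perm.mem_cycleType_iff.mp hl
    obtain ⟨x, hx⟩ := hc.nonempty_support
    have hxτ : τ x = x := (hd x).resolve_left (Equiv.Perm.mem_support.mp hx)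
    refine Nat.dvd_antisymm ((Equiv.Perm.dvd_of_mem_cycleType hl).trans (orderOf_dvd_of_pow_eq_one hπN))
      (hfree x _ ?_)
    rw [hπ, hd.commute.mul_pow, Equiv.Perm.mul_apply, Equiv.Perm.pow_apply_eq_self_of_apply_eq_self hxτ,
      ← hc.orderOf, pow_orderOf_eq_one, Equiv.Perm.one_apply]
  have hcard : Fintype.card α = N * π.cycleType.card := by
    have h := π.sum_cycleType
    rw [hsupp, Finset.card_univ] at h
    rw [← h]
    conv_lhs => rw [hct]
    simp [mul_comm]
  refine ⟨π.cycleType.card, by rw [Nat.card_eq_fintype_card, hcard], fun he => ?_⟩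
  rw [Equiv.Perm.sign_of_cycleType]
  conv_lhs => rw [hct]
  rw [Multiset.sum_replicate, Multiset.card_replicate, smul_eq_mul]
  simp [pow_add, (he.mul_left π.cycleType.card).neg_one_pow]

variable {F : Type*} [Field F] [Fintype F] {ι : Type} [Fintype ι] [DecidableEq ι] {Q : QuadraticForm F (ι → F)}

/-- A freely acting element: its order divides the number of vectors of value `b`; in `Ω`, with an even number
of orbits when the order is even. -/
theorem count_dvd (h : ↥(Cfsg.isometryGroup F ⇑Q)) (b : F)
    (hfree : ∀ v, Q v = b → ∀ l, act Q (h ^ l) v = v → orderOf h ∣ l) :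
    orderOf h ∣ Nat.card {v // Q v = b} ∧
      (h ∈ Cfsg.Omega F ⇑Q → Even (orderOf h) → 2 * orderOf h ∣ Nat.card {v // Q v = b}) := by
  classical
  let ψ : ↥(Cfsg.isometryGroup F ⇑Q) →* Equiv.Perm {v // Q v = b} :=
    { toFun := fun a =>
        { toFun := fun x => ⟨act Q a x.1, by rw [act_quad]; exact x.2⟩
          invFun := fun x => ⟨act Q a⁻¹ x.1, by rw [act_quad]; exact x.2⟩
          left_inv := fun x => Subtype.ext (act_inv_apply a x.1)
          right_inv := fun x => Subtype.ext (by
            have := act_inv_apply a⁻¹ x.1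
            rwa [inv_inv] at this) }
      map_one' := Equiv.ext fun x => Subtype.ext (by show act Q 1 x.1 = x.1; rw [map_one]; rfl)
      map_mul' := fun a c => Equiv.ext fun x => Subtype.ext (act_mul_apply a c x.1) }
  obtain ⟨k, hk, hsign⟩ := perm_free (ψ h) (orderOf_pos h) (by rw [← map_pow, pow_orderOf_eq_one, map_one])
    fun x l hl => hfree x.1 x.2 l (by rw [← map_pow] at hl; exact congrArg Subtype.val hl)
  refine ⟨Dvd.intro k hk.symm, fun hΩ he => ?_⟩
  have hker : Equiv.Perm.sign (ψ h) = 1 := Abelianization.commutator_subset_ker (Equiv.Perm.sign.comp ψ) hΩ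
  rw [hsign he] at hker
  rcases Nat.even_or_odd k with ⟨j, rfl⟩ | hodd
  · exact ⟨j, by rw [hk]; ring⟩
  · rw [hodd.neg_one_pow] at hker
    exact absurd hker (by decide)

end CfsgLib.OmegaNine
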