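import Cfsg.Agent.OmegaNineSpectrum.Unipotent
import Cfsg.Agent.LinearElements.QuadType
import Mathlib.Dynamics.PeriodicPts.Lemmas

/-!
# Fixed spaces of semisimple isometries, restrictions, and unipotent elements on subspaces
-/

set_option autoImplicit false

namespace CfsgLib.OmegaNine

open Matrix Module Submodule QuadType OrthPrimePower CfsgLib.Spinor

variable {F : Type*} [Field F] {ι κ : Type} [Fintype ι] [DecidableEq ι] [Fintype κ] [DecidableEq κ]
  {Q : QuadraticForm F (ι → F)} {Q' : QuadraticForm F (κ → F)}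

theorem fixed_of_coprime {V : Type*} [AddCommGroup V] [Module F V] (T : Module.End F V) {a b : ℕ} {v : V}
    (ha : (T ^ a) v = v) (hb : (T ^ b) v = v) (hab : Nat.Coprime a b) : T v = v := by
  have h1 : Function.IsPeriodicPt (⇑T) a v := by
    show (⇑T)^[a] v = v
    rwa [← Module.End.pow_apply]
  have h2 : Function.IsPeriodicPt (⇑T) b v := by
    show (⇑T)^[b] v = v
    rwa [← Module.End.pow_apply]
  have h := h1.gcd h2
  rw [Nat.coprime_iff_gcd_eq_one.1 hab] at h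
  exact h

theorem sep_span_single (h2 : (2 : F) ≠ 0) {w : ι → F} (hw : Q w ≠ 0) : Sep Q (span F {w}) := by
  intro x hx hx0
  obtain ⟨c, rfl⟩ := mem_span_singleton.1 hx
  refine ⟨w, mem_span_singleton_self w, ?_⟩
  rw [map_smul, LinearMap.smul_apply, smul_eq_mul, polar_diag]
  exact mul_ne_zero (fun h => hx0 (by rw [h, zero_smul])) (mul_ne_zero h2 hw)

/-- A nondegenerate subspace of codimension one. -/
theorem exists_sep_pred [Fintype F] (h2 : (2 : F) ≠ 0) {D : Submodule F (ι → F)} (hD : Sep Q D) {j : ℕ}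
    (hd : finrank F D = j + 1) (hj : 1 ≤ j) :
    ∃ W, W ≤ D ∧ Sep Q W ∧ finrank F W = j := by
  obtain ⟨v, hv, hQv⟩ := exists_value hD (by omega) (1 : F)
  have hv0 : Q v ≠ 0 := by rw [hQv]; exact one_ne_zero
  obtain ⟨W, hWD, hW, -, -, hdim, -⟩ := exists_perp hD (sep_span_single h2 hv0) ((span_singleton_le_iff_mem _ _).2 hv)
  refine ⟨W, hWD, hW, ?_⟩
  rw [finrank_span_singleton (fun h => hv0 (by rw [h, QuadraticMap.map_zero]))] at hdim
  omega

variable (hQ : (QuadraticMap.polarBilin Q).Nondegenerate)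

include hQ

/-- The decomposition by an element of order prime to the characteristic. -/
theorem fix_split [Fintype F] (g : ↥(Cfsg.isometryGroup F ⇑Q)) {N : ℕ} (hN : g ^ N = 1) (hNF : (N : F) ≠ 0) :
    ∃ W M : Submodule F (ι → F), Sep Q W ∧ Sep Q M ∧
      (∀ x ∈ W, ∀ y ∈ M, QuadraticMap.polar (⇑Q) x y = 0) ∧ finrank F W + finrank F M = Fintype.card ι ∧
      (∀ x, x ∈ W ↔ act Q g x = x) ∧ g ∈ suppG Q M ∧
      (∀ x, (∀ y ∈ W, QuadraticMap.polar (⇑Q) x y = 0) → x ∈ M) ∧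
      (∀ x, (∀ y ∈ M, QuadraticMap.polar (⇑Q) x y = 0) → x ∈ W) ∧ ∀ x, ∃ a ∈ W, ∃ b ∈ M, x = a + b := by
  set T := act Q g
  have hT : T ^ N = 1 := by rw [← map_pow, hN, map_one]
  set W := OrthOrders.fixSp T
  set M := OrthOrders.movSp T
  have hc : IsCompl W M := OrthOrders.isCompl_fix_mov T hT hNF
  have horth : ∀ x ∈ W, ∀ y ∈ M, QuadraticMap.polar (⇑Q) x y = 0 := fun x hx y hy =>
    OrthOrders.polar_fix_mov T Q (act_quad g) hx hy
  have hsplit : ∀ x, ∃ a ∈ W, ∃ b ∈ M, x = a + b := fun x => by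
    obtain ⟨a, ha, b, hb, e⟩ := Submodule.mem_sup.1 (hc.sup_eq_top ▸ Submodule.mem_top (x := x))
    exact ⟨a, ha, b, hb, e.symm⟩
  have key : ∀ (A B : Submodule F (ι → F)), (∀ x ∈ A, ∀ y ∈ B, QuadraticMap.polar (⇑Q) x y = 0) →
      (∀ x, ∃ a ∈ A, ∃ b ∈ B, x = a + b) →
      Sep Q A ∧ ∀ x, (∀ y ∈ A, QuadraticMap.polar (⇑Q) x y = 0) → x ∈ B := by
    intro A B ho hs
    have h0 : ∀ x ∈ A, (∀ y ∈ A, QuadraticMap.polar (⇑Q) x y = 0) → x = 0 := fun x hx h => hQ.1 x fun z => by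
      show QuadraticMap.polar (⇑Q) x z = 0
      obtain ⟨a, ha, b, hb, rfl⟩ := hs z
      rw [QuadraticMap.polar_add_right, h a ha, ho x hx b hb, add_zero]
    refine ⟨fun x hx hx0 => ?_, fun x hx => ?_⟩
    · by_contra hall
      push Not at hall
      exact hx0 (h0 x hx hall)
    · obtain ⟨a, ha, b, hb, rfl⟩ := hs x
      rw [h0 a ha (fun y hy => by
        have := hx y hy
        rwa [QuadraticMap.polar_add_left, QuadraticMap.polar_comm (⇑Q) b, ho y hy b hb, add_zero] at this), zero_add]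
      exact hb
  obtain ⟨hW, hW'⟩ := key W M horth hsplit
  obtain ⟨hM, hM'⟩ := key M W (fun x hx y hy => by rw [QuadraticMap.polar_comm]; exact horth y hy x hx)
    (fun x => by obtain ⟨a, ha, b, hb, rfl⟩ := hsplit x; exact ⟨b, hb, a, ha, add_comm a b⟩)
  refine ⟨W, M, hW, hM, horth, ?_, fun x => OrthOrders.mem_fixSp T, fun x hx => ?_, hW', hM', hsplit⟩
  · rw [← Module.finrank_fintype_fun_eq_card (R := F), ← finrank_top F (ι → F), ← hc.sup_eq_top,
      ← Submodule.finrank_sup_add_finrank_inf_eq W M, hc.inf_eq_bot, finrank_bot, add_zero]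
  · exact (OrthOrders.mem_fixSp T).1 (hM' x hx)

/-- An element supported on two orthogonal parts is trivial. -/
theorem eq_one_of_supp {A B : Submodule F (ι → F)} {g : ↥(Cfsg.isometryGroup F ⇑Q)} (hA : g ∈ suppG Q A)
    (hB : g ∈ suppG Q B) (hAB : ∀ a ∈ A, ∀ b ∈ B, QuadraticMap.polar (⇑Q) a b = 0)
    (hsplit : ∀ x, ∃ a ∈ A, ∀ a' ∈ A, QuadraticMap.polar (⇑Q) (x - a) a' = 0) : g = 1 :=
  ((supp_mul_eq_one_iff hQ hA (inv_mem hB) hAB hsplit).1 (mul_inv_cancel g)).1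

theorem split_of_sep [Fintype F] {W : Submodule F (ι → F)} (hW : Sep Q W) :
    ∀ x, ∃ a ∈ W, ∀ a' ∈ W, QuadraticMap.polar (⇑Q) (x - a) a' = 0 := by
  intro x
  obtain ⟨Y, -, -, horth, hsup, -, -⟩ := exists_perp (QuadType.sep_top hQ) hW le_top
  obtain ⟨a, ha, y, hy, rfl⟩ := Submodule.mem_sup.1 (hsup ▸ Submodule.mem_top (x := x))
  refine ⟨a, ha, fun a' ha' => ?_⟩
  rw [add_sub_cancel_left, QuadraticMap.polar_comm]
  exact horth a' ha' y hy

omit hQ

/-- An isometry stabilising the range of an embedding restricts. -/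
theorem exists_restrict (hQ' : (QuadraticMap.polarBilin Q').Nondegenerate) {I : (κ → F) →ₗ[F] (ι → F)}
    (hI : ∀ w, Q (I w) = Q' w) {g : ↥(Cfsg.isometryGroup F ⇑Q)}
    (hg : ∀ w, act Q g (I w) ∈ LinearMap.range I) :
    ∃ k : ↥(Cfsg.isometryGroup F ⇑Q'), ∀ w, I (act Q' k w) = act Q g (I w) := by
  obtain ⟨P, hPI, -⟩ := exists_adjoint hQ' I hI
  have hIP : ∀ w, I (P (act Q g (I w))) = act Q g (I w) := fun w => by
    obtain ⟨u, hu⟩ := hg w
    rw [← hu, hPI]
  obtain ⟨k, hk⟩ := exists_iso_of_map hQ' (P ∘ₗ act Q g ∘ₗ I) fun w => by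
    simp only [LinearMap.comp_apply]
    rw [← hI, hIP, act_quad, hI]
  exact ⟨k, fun w => by rw [hk]; exact hIP w⟩

/-- A regular unipotent element supported on a subspace of odd dimension. -/
theorem exists_unipotent [Fintype F] (p : ℕ) [Fact p.Prime] [CharP F p] (h2 : (2 : F) ≠ 0) (hp : Odd p)
    (hQ : (QuadraticMap.polarBilin Q).Nondegenerate) {W : Submodule F (ι → F)} (hW : Sep Q W) {k : ℕ}
    (hk : finrank F W = k) (hodd : Odd k) :
    ∃ u ∈ suppG Q W, u ∈ Cfsg.Omega F ⇑Q ∧ (∀ c, k ≤ p ^ c → u ^ p ^ c = 1) ∧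
      ∃ v ∈ W, ((act Q u - 1) ^ (k - 1)) v ≠ 0 := by
  obtain ⟨I, hIi, hIr, hnd⟩ := exists_coords hW hk
  obtain ⟨E⟩ := exists_emb (Q' := Q.comp I) h2 hQ hnd I fun _ => rfl
  obtain ⟨u₀, hnil, hk0, v₀, hv₀⟩ := exists_regular h2 hnd (Fintype.card_fin k) hodd
  have hpowI : ∀ (i : ℕ) w, ((act Q (E.φ u₀) - 1) ^ i) (I w) = I (((act (Q.comp I) u₀ - 1) ^ i) w) := by
    intro i
    induction i with
    | zero => intro w; rfl
    | succ i ih =>
      intro w
      rw [pow_succ, pow_succ, Module.End.mul_apply, Module.End.mul_apply, ← ih, LinearMap.sub_apply,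
        Module.End.one_apply, E.apply_I, LinearMap.sub_apply, Module.End.one_apply, map_sub I]
  refine ⟨E.φ u₀, hIr ▸ E.supp u₀, (E.mem_omega u₀).2 (mem_omega_of_nil p h2 hp hnd hnil), fun c hc => ?_,
    I v₀, hIr ▸ LinearMap.mem_range_self I v₀, ?_⟩
  · rw [← map_pow, show u₀ ^ p ^ c = 1 from act_injective (by
      rw [map_pow, map_one, ← sub_eq_zero, ← sub_one_pow_ppow p, pow_eq_zero_of_le hc hk0]), map_one]
  · rw [hpowI]
    exact fun h0 => hv₀ (hIi (h0.trans (map_zero I).symm))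

/-- The order of a unipotent element is at least the nilpotency index. -/
theorem ppow_succ_dvd_orderOf (p : ℕ) [Fact p.Prime] [CharP F p] {g : ↥(Cfsg.isometryGroup F ⇑Q)} {C b j : ℕ}
    (hC : g ^ p ^ C = 1) (hbj : p ^ b ≤ j) {v : ι → F} (hv : ((act Q g - 1) ^ j) v ≠ 0) :
    p ^ (b + 1) ∣ orderOf g := by
  obtain ⟨i, hi, he⟩ := (Nat.dvd_prime_pow Fact.out).1 (orderOf_dvd_of_pow_eq_one hC)
  rw [he]
  refine pow_dvd_pow _ ?_
  by_contra hlt
  have hg : g ^ p ^ b = 1 := orderOf_dvd_iff_pow_eq_one.1 (he ▸ pow_dvd_pow p (by omega))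
  refine hv ?_
  rw [pow_eq_zero_of_le hbj (by rw [sub_one_pow_ppow p, ← map_pow, hg, map_one, sub_self]), LinearMap.zero_apply]

end CfsgLib.OmegaNine
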