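import Cfsg.Agent.OmegaNineSpectrum.Targets
import Mathlib.LinearAlgebra.Eigenspace.Zero
import Mathlib.LinearAlgebra.Charpoly.ToMatrix

/-!
# Element orders of `Ω` in dimension nine against those of the extension in dimension eight
-/

set_option autoImplicit false

namespace CfsgLib.OmegaNine

open Matrix Module Submodule Polynomial QuadType OrthPrimePower CfsgLib.Spinor CfsgLib.PrimeGraphBC

variable {F : Type*} [Field F] [Fintype F] {ι κ : Type} [Fintype ι] [DecidableEq ι] [Fintype κ] [DecidableEq κ]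
  {Q : QuadraticForm F (ι → F)} {Q8 : QuadraticForm F (κ → F)}

/-- Perpendiculars of nonsquare and of square vectors. -/
structure Bridge (Q : QuadraticForm F (ι → F)) (Q8 : QuadraticForm F (κ → F)) : Prop where
  nine : Fintype.card ι = 9
  eight : Fintype.card κ = 8
  minus : ¬ Plus Q8 ⊤
  nd : (QuadraticMap.polarBilin Q).Nondegenerate
  nd8 : (QuadraticMap.polarBilin Q8).Nondegenerate
  perp_nonsquare : ∀ w, ¬ IsSquare (Q w) → ∃ I : (κ → F) →ₗ[F] (ι → F),
    (∀ v, Q (I v) = Q8 v) ∧ ∀ x, QuadraticMap.polar (⇑Q) x w = 0 ↔ x ∈ LinearMap.range I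
  perp_square : ∀ w, Q w ≠ 0 → IsSquare (Q w) → ∃ J : (Fin 4 ⊕ Fin 4 → F) →ₗ[F] (ι → F),
    (∀ v, Q (J v) = StdForms.plusQ 4 F v) ∧ ∀ x, QuadraticMap.polar (⇑Q) x w = 0 ↔ x ∈ LinearMap.range J

theorem Emb.apply_pow {μ : Type} [Fintype μ] [DecidableEq μ] {Q' : QuadraticForm F (μ → F)}
    {I : (μ → F) →ₗ[F] (ι → F)} (E : Emb Q Q' I) (k : ↥(Cfsg.isometryGroup F ⇑Q')) :
    ∀ (i : ℕ) (v : μ → F), (act Q (E.φ k) ^ i) (I v) = I ((act Q' k ^ i) v)
  | 0, v => rfl
  | i + 1, v => by rw [pow_succ, pow_succ, Module.End.mul_apply, Module.End.mul_apply, E.apply_I, E.apply_pow k i]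

theorem supp_perp_of_fixed (h2 : (2 : F) ≠ 0) (hQ : (QuadraticMap.polarBilin Q).Nondegenerate) {w : ι → F}
    (hw : Q w ≠ 0) {g : ↥(Cfsg.isometryGroup F ⇑Q)} (hg : act Q g w = w) {R : Submodule F (ι → F)}
    (hR : ∀ x, QuadraticMap.polar (⇑Q) x w = 0 ↔ x ∈ R) : g ∈ suppG Q R := by
  intro x hx
  obtain ⟨a, ha, hxa⟩ := split_of_sep hQ (sep_span_single h2 hw) x
  obtain ⟨c, rfl⟩ := mem_span_singleton.1 ha
  have h0 : x - c • w = 0 := hQ.1 _ fun z => by
    show QuadraticMap.polar (⇑Q) (x - c • w) z = 0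
    obtain ⟨b, hb, hzb⟩ := split_of_sep hQ (sep_span_single h2 hw) z
    rw [← add_sub_cancel b z, QuadraticMap.polar_add_right, hxa b hb, zero_add]
    have hR' : z - b ∈ R := (hR _).1 (hzb w (mem_span_singleton_self w))
    rw [QuadraticMap.polar_sub_left, hx _ hR', QuadraticMap.polar_smul_left, QuadraticMap.polar_comm,
      (hR _).2 hR', smul_zero, sub_zero]
  rw [sub_eq_zero.1 h0, map_smul, hg]

theorem even_moved (h2 : (2 : F) ≠ 0) (hQ : (QuadraticMap.polarBilin Q).Nondegenerate)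
    {g : ↥(Cfsg.isometryGroup F ⇑Q)} (hg : g ∈ Cfsg.Omega F ⇑Q) {W M : Submodule F (ι → F)} (hM : Sep Q M)
    (hWM : ∀ x ∈ W, ∀ y ∈ M, QuadraticMap.polar (⇑Q) x y = 0) (hW : ∀ x, x ∈ W ↔ act Q g x = x)
    (hgM : g ∈ suppG Q M) : Even (finrank F M) := by
  obtain ⟨I, hIi, hIr, hnd⟩ := exists_coords hM rfl
  obtain ⟨E⟩ := exists_emb (Q' := Q.comp I) h2 hQ hnd I fun _ => rfl
  obtain ⟨k, rfl⟩ := E.preimage g (suppG_mono hIr.ge hgM)
  have hdet := (Forms.mem_special_iff k).1 (Forms.omega_le_special ((E.mem_omega k).1 hg))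
  rw [det_eq_of_no_fixed hnd fun v hv => ?_, Fintype.card_fin] at hdet
  · rcases Nat.even_or_odd (finrank F M) with h | h
    · exact h
    · rw [h.neg_one_pow] at hdet
      exact absurd (show (2 : F) = 0 by linear_combination -hdet) h2
  · have hIM : I v ∈ M := hIr.le (LinearMap.mem_range_self I v)
    have hIW : I v ∈ W := (hW _).2 (by rw [E.apply_I, hv])
    by_contra hv0
    obtain ⟨y, hy, hxy⟩ := hM (I v) hIM fun h0 => hv0 (hIi (h0.trans (map_zero I).symm))
    exact hxy (hWM _ hIW y hy)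

variable (p : ℕ) [Fact p.Prime] [CharP F p] (hp : Odd p) (h2 : (2 : F) ≠ 0) (B : Bridge Q Q8)

include hp h2 B

/-- From the extension to dimension nine. -/
theorem exists_nine {k : ↥(Cfsg.isometryGroup F ⇑Q8)} (hk : k ∈ Cfsg.Omega F ⇑Q8) :
    (∃ g ∈ Cfsg.Omega F ⇑Q, orderOf k ∣ orderOf g) ∧
      ∀ v, (∑ i ∈ Finset.range (orderOf k), act Q8 k ^ i) v ≠ 0 →
        ∃ g ∈ Cfsg.Omega F ⇑Q, p * orderOf k ∣ orderOf g := by
  have hpp : p.Prime := Fact.out
  obtain ⟨ν, hν⟩ := FiniteField.exists_nonsquare (F := F) fun h => h2 (by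
    haveI := ringChar.eq_iff.1 h
    exact CharTwo.two_eq_zero)
  obtain ⟨w, -, hQw⟩ := exists_value (QuadType.sep_top B.nd) (by
    rw [finrank_top, Module.finrank_fintype_fun_eq_card, B.nine]; norm_num) ν
  have hwn : ¬ IsSquare (Q w) := hQw ▸ hν
  have hw0 : Q w ≠ 0 := fun h => hwn (h ▸ IsSquare.zero)
  obtain ⟨I, hI, hIperp⟩ := B.perp_nonsquare w hwn
  obtain ⟨E⟩ := exists_emb h2 B.nd B.nd8 I hI
  have hφ : orderOf (E.φ k) = orderOf k := orderOf_injective E.φ E.inj k
  refine ⟨⟨E.φ k, (E.mem_omega k).2 hk, hφ.symm.dvd⟩, fun v hv => ?_⟩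
  set g := E.φ k with hg
  set T := act Q g
  obtain ⟨a, N, hN, hord⟩ := Nat.exists_eq_pow_mul_and_not_dvd (orderOf_pos k).ne' p hpp.ne_one
  have hgN : (g ^ p ^ a) ^ N = 1 := by rw [← pow_mul, ← hord, ← hφ, pow_orderOf_eq_one]
  have hNF : (N : F) ≠ 0 := fun h => hN ((CharP.cast_eq_zero_iff F p N).1 h)
  obtain ⟨W, M, hW, hM, hWM, hdim, hWiff, hsM, -, -, -⟩ := fix_split B.nd (g ^ p ^ a) hgN hNF
  have heven := even_moved h2 B.nd (pow_mem ((E.mem_omega k).2 hk) _) hM hWM hWiff hsM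
  rw [B.nine] at hdim
  have hgw : T w = w := by
    refine E.supp k w ?_
    rintro _ ⟨u, rfl⟩
    rw [QuadraticMap.polar_comm]
    exact (hIperp _).2 (LinearMap.mem_range_self I u)
  -- the vector in the fixed space
  set z := (∑ j ∈ Finset.range N, (T ^ p ^ a) ^ j) (I v) with hz
  have hsum : ((T - 1) ^ (p ^ a - 1)) z ≠ 0 := by
    intro h0
    refine hv ?_
    have hI0 : I ((∑ i ∈ Finset.range (orderOf k), act Q8 k ^ i) v) = 0 := by
      rw [LinearMap.sum_apply, map_sum, Finset.sum_congr rfl fun i _ => (E.apply_pow k i v).symm,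
        ← LinearMap.sum_apply, hord, mul_comm, sum_range_mul', sum_ppow p,
        Finset.sum_congr rfl fun j _ => show T ^ (j * p ^ a) = (T ^ p ^ a) ^ j by rw [← pow_mul, mul_comm],
        show (∑ j ∈ Finset.range N, (T ^ p ^ a) ^ j) * (T - 1) ^ (p ^ a - 1) =
          (T - 1) ^ (p ^ a - 1) * ∑ j ∈ Finset.range N, (T ^ p ^ a) ^ j from
          (Commute.sum_left _ _ _ fun j _ =>
            (((Commute.refl T).pow_left _).pow_left _ |>.sub_right (Commute.one_right _)).pow_right _).eq,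
        Module.End.mul_apply, ← hz, h0]
    exact (LinearMap.ker_eq_bot.1 (LinearMap.ker_eq_bot'.2 fun x hx => B.nd8.1 x fun y => by
      show QuadraticMap.polar (⇑Q8) x y = 0
      have : QuadraticMap.polar (⇑Q) (I x) (I y) = QuadraticMap.polar (⇑Q8) x y := by
        simp only [QuadraticMap.polar, ← map_add, hI]
      rw [← this, hx, QuadraticMap.polar_zero_left])) (hI0.trans (map_zero I).symm)
  have hzW : z ∈ W := by
    rw [hWiff, map_pow]
    have h := mul_geom_sum (T ^ p ^ a) N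
    rw [show (T ^ p ^ a) ^ N = 1 by rw [← map_pow, ← map_pow, hgN, map_one], sub_self, sub_mul, one_mul,
      sub_eq_zero] at h
    rw [hz, ← Module.End.mul_apply, h]
  have hzw : QuadraticMap.polar (⇑Q) z w = 0 := by
    rw [hz, LinearMap.sum_apply, hIperp]
    refine Submodule.sum_mem _ fun j _ => ?_
    rw [← pow_mul, E.apply_pow]
    exact LinearMap.mem_range_self I _
  set Y := W ⊓ LinearMap.ker (QuadraticMap.polarBilin Q w)
  have hY : ∀ y, y ∈ Y ↔ y ∈ W ∧ QuadraticMap.polar (⇑Q) w y = 0 := fun y => Iff.rfl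
  have hstab : ∀ y ∈ Y, (T - 1) y ∈ Y := by
    intro y hy
    rw [hY] at hy ⊢
    constructor
    · rw [hWiff] at hy ⊢
      rw [LinearMap.sub_apply, Module.End.one_apply, map_sub, hy.1, ← act_mul_apply, ← pow_succ, pow_succ',
        act_mul_apply, hy.1]
    · rw [LinearMap.sub_apply, Module.End.one_apply, QuadraticMap.polar_sub_right, hy.2, sub_zero]
      conv_lhs => arg 2; rw [← hgw]
      rw [act_polar, hy.2]
  have hchain := (chain_le_finrank hstab (C := p ^ a) (z := z) ((hY z).2 ⟨hzW, by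
    rw [QuadraticMap.polar_comm]; exact hzw⟩) hsum fun y hy => by
      rw [sub_one_pow_ppow p, LinearMap.sub_apply, Module.End.one_apply, ← map_pow,
        (hWiff y).1 ((hY y).1 hy).1, sub_self]).1
  have hwW : w ∈ W := (hWiff w).2 (act_pow_fixed hgw _)
  have hlt : finrank F Y < finrank F W := Submodule.finrank_lt_finrank_of_lt
    (lt_of_le_of_ne inf_le_left fun e => by
      have : w ∈ Y := e ▸ hwW
      have h := ((hY w).1 this).2
      rw [← QuadraticMap.polarBilin_apply_apply, polar_diag] at h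
      exact mul_ne_zero h2 hw0 h)
  have h1 : 1 ≤ p ^ a := Nat.one_le_pow _ _ hpp.pos
  obtain ⟨e', he'⟩ := heven
  have hodd : Odd (finrank F W) := ⟨4 - e', by omega⟩
  obtain ⟨u, hu, huΩ, hupow, v', -, hv'⟩ := exists_unipotent p h2 hp B.nd hW rfl hodd
  obtain ⟨C, hC⟩ : ∃ C, finrank F W ≤ p ^ C := ⟨finrank F W, (Nat.lt_pow_self hpp.one_lt).le⟩
  have hpu : p ^ (a + 1) ∣ orderOf u := ppow_succ_dvd_orderOf p (hupow C hC) (by omega) hv'
  refine ⟨u * g ^ p ^ a, mul_mem huΩ (pow_mem ((E.mem_omega k).2 hk) _), ?_⟩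
  rw [orderOf_supp_mul B.nd hu hsM hWM (split_of_sep B.nd hW),
    show orderOf (g ^ p ^ a) = N by
      rw [orderOf_pow_of_dvd (pow_ne_zero _ hpp.ne_zero) (by rw [hφ, hord]; exact dvd_mul_right _ _), hφ, hord,
        Nat.mul_div_cancel_left _ (pow_pos hpp.pos _)],
    hord, ← mul_assoc, ← pow_succ']
  exact ((hpp.coprime_iff_not_dvd.2 hN).pow_left _).mul_dvd_of_dvd_of_dvd
    (hpu.trans (Nat.dvd_lcm_left _ _)) (Nat.dvd_lcm_right _ _)

omit hp in
/-- An element fixing a vector of nonsquare value. -/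
theorem good_of_fixed {w : ι → F} (hw : ¬ IsSquare (Q w)) {h : ↥(Cfsg.isometryGroup F ⇑Q)}
    (hΩ : h ∈ Cfsg.Omega F ⇑Q) (hfix : act Q h w = w) :
    (∀ n, n ∣ orderOf h → Good p Q8 n) ∧
      ∀ n, n ∣ p * orderOf h → ∀ v, QuadraticMap.polar (⇑Q) v w = 0 →
        (∑ i ∈ Finset.range (orderOf h), act Q h ^ i) v ≠ 0 → Good p Q8 n := by
  have hw0 : Q w ≠ 0 := fun e => hw (e ▸ IsSquare.zero)
  obtain ⟨I, hI, hIperp⟩ := B.perp_nonsquare w hw
  obtain ⟨E⟩ := exists_emb h2 B.nd B.nd8 I hI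
  obtain ⟨k, rfl⟩ := E.preimage h (supp_perp_of_fixed h2 B.nd hw0 hfix hIperp)
  have ho : orderOf (E.φ k) = orderOf k := orderOf_injective E.φ E.inj k
  rw [ho]
  refine ⟨fun n hn => ⟨k, (E.mem_omega k).1 hΩ, Or.inl hn⟩, fun n hn v hv hsum => ?_⟩
  obtain ⟨u, rfl⟩ := (hIperp v).1 hv
  refine ⟨k, (E.mem_omega k).1 hΩ, Or.inr ⟨hn, u, fun h0 => hsum ?_⟩⟩
  rw [LinearMap.sum_apply, Finset.sum_congr rfl fun i _ => E.apply_pow k i u, ← map_sum,
    ← LinearMap.sum_apply, h0, map_zero]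

/-- A fixed space of dimension at least three. -/
theorem good_of_large {g : ↥(Cfsg.isometryGroup F ⇑Q)} (hg : g ∈ Cfsg.Omega F ⇑Q) {b N : ℕ} (hN : ¬ p ∣ N)
    (hord : orderOf g = p ^ b * N) {W M : Submodule F (ι → F)} (hW : Sep Q W) (hM : Sep Q M)
    (hWM : ∀ x ∈ W, ∀ y ∈ M, QuadraticMap.polar (⇑Q) x y = 0) (hWiff : ∀ x, x ∈ W ↔ act Q (g ^ p ^ b) x = x)
    (hsM : g ^ p ^ b ∈ suppG Q M) (hW' : ∀ x, (∀ y ∈ W, QuadraticMap.polar (⇑Q) x y = 0) → x ∈ M)
    (hM' : ∀ x, (∀ y ∈ M, QuadraticMap.polar (⇑Q) x y = 0) → x ∈ W)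
    (hsplit : ∀ x, ∃ a ∈ W, ∃ c ∈ M, x = a + c) {e : ℕ} (he : 1 ≤ e) (hWd : finrank F W = 2 * e + 1) :
    Good p Q8 (orderOf g) := by
  have hpp : p.Prime := Fact.out
  set s := g ^ p ^ b with hs
  obtain ⟨I, hIi, hIr, hnd⟩ := exists_coords hM rfl
  obtain ⟨E⟩ := exists_emb (Q' := Q.comp I) h2 B.nd hnd I fun _ => rfl
  have hginv : ∀ a ∈ W, act Q g⁻¹ a ∈ W := fun a ha => by
    rw [hWiff] at ha ⊢
    rw [← act_mul_apply, ← ((Commute.refl g).pow_right (p ^ b)).inv_left.eq, act_mul_apply, ha]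
  have hgM : ∀ y ∈ M, act Q g y ∈ M := fun y hy => hW' _ fun a ha => by
    conv_lhs => rw [show a = act Q g (act Q g⁻¹ a) by rw [← act_mul_apply, mul_inv_cancel, map_one]; rfl]
    rw [act_polar, QuadraticMap.polar_comm]
    exact hWM _ (hginv a ha) y hy
  obtain ⟨k, hk⟩ := exists_restrict (Q := Q) hnd (I := I) (fun _ => rfl) (g := g) fun w => by
    exact hIr.ge (hgM _ (hIr.le (LinearMap.mem_range_self I w)))
  set g' := E.φ k with hg'
  have hg'M : g' ∈ suppG Q M := suppG_mono hIr.le (E.supp k)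
  set u' := g'⁻¹ * g with hu'
  have hu'M : ∀ y ∈ M, act Q u' y = y := fun y hy => by
    obtain ⟨v, rfl⟩ := hIr.ge hy
    rw [hu', act_mul_apply, ← hk, ← E.apply_I, ← hg', act_inv_apply]
  have hu'W : u' ∈ suppG Q W := fun x hx => hu'M x (hW' x hx)
  have hMW : ∀ x ∈ M, ∀ y ∈ W, QuadraticMap.polar (⇑Q) x y = 0 := fun x hx y hy => by
    rw [QuadraticMap.polar_comm]; exact hWM y hy x hx
  have hsplitM := split_of_sep B.nd hM
  have hcomm : Commute g' u' := supp_commute hg'M hu'W hMW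
  have hgeq : g = g' * u' := by rw [hu', mul_inv_cancel_left]
  have hu'pow : u' ^ p ^ b = 1 := by
    refine eq_one_of_supp B.nd (A := M) (B := W) ?_ (pow_mem hu'W _) hMW hsplitM
    have : u' ^ p ^ b = (g' ^ p ^ b)⁻¹ * s := by
      rw [hs, hgeq, hcomm.mul_pow, inv_mul_cancel_left]
    rw [this]
    exact mul_mem (inv_mem (pow_mem hg'M _)) hsM
  have hu'nil : IsNilpotent (act Q u' - 1) := (nil_iff_pow p _).2 ⟨b, by rw [← map_pow, hu'pow, map_one]⟩
  have hu'Ω := mem_omega_of_nil p h2 hp B.nd hu'nil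
  have hg'Ω : g' ∈ Cfsg.Omega F ⇑Q := by
    rw [show g' = g * u'⁻¹ by rw [hgeq, mul_inv_cancel_right]]
    exact mul_mem hg (inv_mem hu'Ω)
  -- the fixed vector
  obtain ⟨ν, hν⟩ := FiniteField.exists_nonsquare (F := F) fun h => h2 (by
    haveI := ringChar.eq_iff.1 h
    exact CharTwo.two_eq_zero)
  obtain ⟨w, hwW, hQw⟩ := exists_value hW (by omega) ν
  have hwn : ¬ IsSquare (Q w) := hQw ▸ hν
  have hw0 : Q w ≠ 0 := fun h => hwn (h ▸ IsSquare.zero)
  have hg'w : act Q g' w = w := hg'M w fun y hy => hWM w hwW y hy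
  have hs' : g' ^ p ^ b = s := by
    rw [hs, hgeq, hcomm.mul_pow, hu'pow, mul_one]
  have hords : orderOf s = N := by
    rw [hs, orderOf_pow_of_dvd (pow_ne_zero _ hpp.ne_zero) (hord ▸ dvd_mul_right _ _), hord,
      Nat.mul_div_cancel_left _ (pow_pos hpp.pos _)]
  have hNd : N ∣ orderOf g' := by
    rw [← hords, ← hs']; exact orderOf_pow_dvd _
  have hcop : ∀ x, Nat.Coprime (p ^ x) N := fun x => (hpp.coprime_iff_not_dvd.2 hN).pow_left x
  by_cases hbig : orderOf g ∣ orderOf g'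
  · exact (good_of_fixed p h2 B hwn hg'Ω hg'w).1 _ hbig
  have hg'dvd : orderOf g' ∣ p ^ b * N := by
    rw [← hord]
    refine orderOf_dvd_of_pow_eq_one ?_
    have h := pow_orderOf_eq_one g
    nth_rw 1 [hgeq] at h
    rw [hcomm.mul_pow] at h
    exact ((supp_mul_eq_one_iff B.nd (pow_mem hg'M _) (pow_mem hu'W _) hMW hsplitM).1 h).1
  have hNpos : 0 < N := Nat.pos_of_ne_zero fun h0 => hN (by rw [h0]; exact dvd_zero p)
  obtain ⟨d, hd⟩ := hNd
  obtain ⟨x, hx, rfl⟩ := (Nat.dvd_prime_pow hpp).1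
    ((Nat.mul_dvd_mul_iff_left hNpos).1
      (hd ▸ mul_comm (p ^ b) N ▸ hg'dvd))
  have hxb : x < b := by
    rcases hx.lt_or_eq with h | rfl
    · exact h
    · exact absurd (by rw [hord, hd, mul_comm]) hbig
  obtain ⟨c, rfl⟩ : ∃ c, b = c + 1 := ⟨b - 1, by omega⟩
  have hg'c : g' ^ (N * p ^ c) = 1 := orderOf_dvd_iff_pow_eq_one.1
    (hd ▸ mul_dvd_mul_left N (pow_dvd_pow p (by omega)))
  have hu'c : u' ^ p ^ c ≠ 1 := fun h => by
    have h' : orderOf g ∣ N * p ^ c := orderOf_dvd_of_pow_eq_one (by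
      rw [hgeq, hcomm.mul_pow, hg'c, one_mul, mul_comm, pow_mul, h, one_pow])
    rw [hord, mul_comm, Nat.mul_dvd_mul_iff_left hNpos,
      Nat.pow_dvd_pow_iff_le_right hpp.one_lt] at h'
    omega
  set U' := act Q u' - 1 with hU'
  obtain ⟨a, haW, ha⟩ : ∃ a ∈ W, (U' ^ p ^ c) a ≠ 0 := by
    by_contra hall
    push Not at hall
    refine hu'c (act_injective ?_)
    rw [map_pow, map_one, ← sub_eq_zero, ← sub_one_pow_ppow p]
    refine LinearMap.ext fun y => ?_
    obtain ⟨a, ha, m, hm, rfl⟩ := hsplit y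
    have hm0 : ∀ i, 1 ≤ i → (U' ^ i) m = 0 := fun i hi => by
      obtain ⟨i, rfl⟩ := Nat.exists_eq_add_of_le hi
      rw [add_comm, pow_succ, Module.End.mul_apply, hU', LinearMap.sub_apply, Module.End.one_apply, hu'M m hm,
        sub_self, map_zero]
    rw [map_add, hall a ha, hm0 _ (Nat.one_le_pow _ _ hpp.pos), add_zero, LinearMap.zero_apply]
  have hWu : ∀ y ∈ W, U' y ∈ W := fun y hy => W.sub_mem (hM' _ fun m hm => by
    conv_lhs => rw [← hu'M m hm]
    rw [act_polar]
    exact hWM y hy m hm) hy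
  have hchain := (chain_le_finrank hWu (C := p ^ (c + 1)) haW ha fun y _ => by
    rw [hU', sub_one_pow_ppow p, ← map_pow, hu'pow, map_one, sub_self]; rfl).1
  rw [hWd] at hchain
  have hle : p ^ c ≤ 2 * e - 1 := by
    obtain ⟨t, ht⟩ := (hp.pow : Odd (p ^ c)); omega
  -- the subspaces inside `W`
  obtain ⟨W0, hW0W, hW0, hwW0, -, hdim, -⟩ := exists_perp hW (sep_span_single h2 hw0)
    ((span_singleton_le_iff_mem _ _).2 hwW)
  rw [finrank_span_singleton (fun h => hw0 (by rw [h, QuadraticMap.map_zero])), hWd] at hdim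
  obtain ⟨W00, hle0, hW00, hW00d⟩ := exists_sep_pred h2 hW0 (j := 2 * e - 1) (by omega) (by omega)
  have hw00 : ∀ y ∈ W00, QuadraticMap.polar (⇑Q) w y = 0 := fun y hy =>
    hwW0 w (mem_span_singleton_self w) y (hle0 hy)
  have hM00 : ∀ x ∈ M, ∀ y ∈ W00, QuadraticMap.polar (⇑Q) x y = 0 := fun x hx y hy => hMW x hx y (hW0W (hle0 hy))
  rcases hle.lt_or_eq with hlt | heq
  · obtain ⟨u, hu, huΩ, hupow, v, -, hv⟩ :=
      exists_unipotent p h2 hp B.nd hW00 hW00d ⟨e - 1, by omega⟩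
    obtain ⟨C, hC⟩ : ∃ C, 2 * e - 1 ≤ p ^ C := ⟨2 * e - 1, (Nat.lt_pow_self hpp.one_lt).le⟩
    have hpu : p ^ (c + 1) ∣ orderOf u := ppow_succ_dvd_orderOf p (hupow C hC) (by omega) hv
    refine (good_of_fixed p h2 B hwn (mul_mem hg'Ω huΩ) (h := g' * u) ?_).1 _ ?_
    · rw [act_mul_apply, hu w hw00, hg'w]
    · rw [orderOf_supp_mul B.nd hg'M hu hM00 hsplitM, hord]
      exact (hcop _).mul_dvd_of_dvd_of_dvd (hpu.trans (Nat.dvd_lcm_right _ _))
        ((Dvd.intro _ hd.symm).trans (Nat.dvd_lcm_left _ _))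
  · obtain ⟨h, hh, hhΩ, ho, v, hv, hsum⟩ := exists_translate B.nd h2 p hp hW00 (hW00d.trans heq.symm) hM00
      hg'M hg'Ω hN (Dvd.intro _ hd.symm) (hd ▸ mul_dvd_mul_left N (pow_dvd_pow p (by omega)))
    refine (good_of_fixed p h2 B hwn hhΩ (hh w fun y hy => ?_)).2 _ ?_ v ?_ hsum
    · obtain ⟨m, hm, z, hz, rfl⟩ := Submodule.mem_sup.1 hy
      rw [QuadraticMap.polar_add_right, hWM w hwW m hm, hw00 z hz, add_zero]
    · rw [ho, hord, pow_succ]; exact dvd_of_eq (by ring)
    · rw [QuadraticMap.polar_comm]; exact hw00 v hv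

omit hp in
/-- A fixed line of square value and one class of eight eigenvalues. -/
theorem good_of_big [DecidableEq (AlgebraicClosure F)] (hqodd : Odd (Fintype.card F))
    {g : ↥(Cfsg.isometryGroup F ⇑Q)}
    (hg : g ∈ Cfsg.Omega F ⇑Q) {w : ι → F} (hw0 : Q w ≠ 0) (hw : IsSquare (Q w)) (hgw : act Q g w = w)
    (hone : ∀ (C : ℕ) v, ((act Q g - 1) ^ C) v = 0 → v ∈ span F {w})
    {C : Cls (rootsK (AlgebraicClosure F) (mat Q g)) (Fintype.card F)} (hk : C.k = 4) {x : AlgebraicClosure F}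
    (hx : x ∈ C.T) (hall : ∀ y ∈ rootsK (AlgebraicClosure F) (mat Q g), y = 1 ∨ y ∈ C.T)
    (hn : orderOf g = orderOf x) :
    orderOf g ∣ Nat.lcm (Fintype.card F ^ 2 + 1) (Fintype.card F ^ 2 - 1) := by
  set n := orderOf g with hnd
  obtain ⟨J, hJ, hJperp⟩ := B.perp_square w hw0 hw
  obtain ⟨E⟩ := exists_emb h2 B.nd (StdForms.plusQ_nondegenerate 4) J hJ
  obtain ⟨k, hkg⟩ := E.preimage g (supp_perp_of_fixed h2 B.nd hw0 hgw hJperp)
  have hon : orderOf k = n := by rw [hnd, ← hkg, orderOf_injective E.φ E.inj]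
  set T := act Q g with hT
  set χ := (mat Q g).charpoly with hχ
  obtain ⟨R, hR, hR'⟩ := χ.exists_eq_pow_rootMultiplicity_mul_and_not_dvd (Matrix.charpoly_monic _).ne_zero 1
  set c1 := χ.rootMultiplicity 1
  have haev : aeval T χ = 0 := by
    show aeval (Matrix.toLinAlgEquiv' (mat Q g)) χ = 0
    rw [Polynomial.aeval_algEquiv, AlgHom.comp_apply, hχ, Matrix.aeval_self_charpoly, map_zero]
  have hfree : ∀ v, StdForms.plusQ 4 F v = 1 → ∀ l, act (StdForms.plusQ 4 F) (k ^ l) v = v → orderOf k ∣ l := by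
    intro v hv l hl
    by_contra hnl
    rw [hon] at hnl
    have hl' : (T ^ l) (J v) = J v := by
      rw [hT, ← hkg, E.apply_pow, ← map_pow, hl]
    have hcop : IsCoprime R (X ^ l - 1) := by
      refine (Polynomial.isCoprime_iff_aeval_ne_zero_of_isAlgClosed F (AlgebraicClosure F) R (X ^ l - 1)).2 fun y => ?_
      by_contra hy
      push Not at hy
      obtain ⟨hyR, hyl⟩ := hy
      have hyS : y ∈ rootsK (AlgebraicClosure F) (mat Q g) := by
        rw [rootsK, mem_roots (Polynomial.map_ne_zero (Matrix.charpoly_monic _).ne_zero), IsRoot, eval_map,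
          ← aeval_def, ← hχ, hR, map_mul, hyR, mul_zero]
      rcases hall y hyS with rfl | hy'
      · refine hR' (dvd_iff_isRoot.2 ((algebraMap F (AlgebraicClosure F)).injective ?_))
        rw [map_zero, ← Polynomial.aeval_algebraMap_apply_eq_algebraMap_eval, map_one]
        exact hyR
      · rw [map_sub, map_pow, aeval_X, map_one, sub_eq_zero] at hyl
        exact hnl (hn ▸ C.conj y hy' x hx ▸ orderOf_dvd_of_pow_eq_one hyl)
    obtain ⟨a, b, hab⟩ := hcop
    have h1 : ((T - 1) ^ c1) (J v) = 0 := by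
      have e2 : aeval T ((X : F[X]) ^ l - 1) (J v) = 0 := by simp [hl']
      have e1 : aeval T ((X - Polynomial.C (1 : F)) ^ c1) = (T - 1) ^ c1 := by simp
      rw [← e1, show (X - Polynomial.C (1 : F)) ^ c1 = a * χ + (X - Polynomial.C 1) ^ c1 * b * (X ^ l - 1) by
        rw [hR]; linear_combination -(X - Polynomial.C (1 : F)) ^ c1 * hab,
        map_add, LinearMap.add_apply, map_mul, haev, mul_zero, LinearMap.zero_apply, zero_add, map_mul,
        Module.End.mul_apply, e2, map_zero]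
    obtain ⟨t, ht⟩ := mem_span_singleton.1 (hone c1 _ h1)
    have h2' : QuadraticMap.polar (⇑Q) (J v) w = 0 := (hJperp _).2 (LinearMap.mem_range_self J v)
    rw [← ht, ← QuadraticMap.polarBilin_apply_apply, map_smul, LinearMap.smul_apply, polar_diag, smul_eq_mul] at h2'
    have ht0 := (mul_eq_zero.1 h2').resolve_right (mul_ne_zero h2 hw0)
    rw [← hJ, ← ht, ht0, zero_smul, QuadraticMap.map_zero] at hv
    exact zero_ne_one hv
  obtain ⟨hd1, hd2⟩ := count_dvd k 1 hfree
  have hd2' := hd2 ((E.mem_omega k).1 (hkg ▸ hg))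
  rw [hon, show Nat.card {v // StdForms.plusQ 4 F v = 1} = ((Fintype.card F) ^ 4 - 1) * (Fintype.card F) ^ 3 from
    (Nat.card_congr (Equiv.subtypeEquivRight fun v => by rw [StdForms.plusQ_apply])).trans
      (LinearElements.card_plus_value 4 one_ne_zero)] at hd1 hd2'
  have hq2 : 2 ≤ (Fintype.card F) := Fintype.one_lt_card
  have hq4 : (Fintype.card F) ^ 4 - 1 = ((Fintype.card F) ^ 2 + 1) * ((Fintype.card F) ^ 2 - 1) := by
    rw [show ((Fintype.card F) ^ 4 : ℕ) = ((Fintype.card F) ^ 2) ^ 2 by ring, show ((Fintype.card F) ^ 2) ^ 2 - 1 = ((Fintype.card F) ^ 2) ^ 2 - 1 ^ 2 by norm_num, Nat.sq_sub_sq]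
  have hgcd : Nat.gcd ((Fintype.card F) ^ 2 + 1) ((Fintype.card F) ^ 2 - 1) ∣ 2 := by
    have h := Nat.dvd_sub (Nat.gcd_dvd_left ((Fintype.card F) ^ 2 + 1) ((Fintype.card F) ^ 2 - 1)) (Nat.gcd_dvd_right _ _)
    rwa [show (Fintype.card F) ^ 2 + 1 - ((Fintype.card F) ^ 2 - 1) = 2 by have := Nat.one_le_pow 2 (Fintype.card F) (by omega); omega] at h
  suffices h : 2 * n ∣ (Fintype.card F) ^ 4 - 1 by
    refine Nat.dvd_of_mul_dvd_mul_left two_pos (h.trans ?_)
    rw [hq4, ← Nat.gcd_mul_lcm ((Fintype.card F) ^ 2 + 1) ((Fintype.card F) ^ 2 - 1)]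
    exact mul_dvd_mul_right hgcd _
  have hexp := C.exp_eq x hx
  rw [hk] at hexp
  have hdvd : n ∣ expnt (Fintype.card F) 4 C.ε := by rw [hn]; exact orderOf_dvd_of_pow_eq_one hexp
  have hnq : Nat.Coprime n ((Fintype.card F) ^ 3) := by
    refine Nat.Coprime.pow_right _ (Nat.Coprime.coprime_dvd_left hdvd ?_)
    rw [expnt]
    cases C.ε
    · rw [cond_false, Nat.coprime_comm, pow_succ', Nat.coprime_mul_left_add_right]
      exact Nat.coprime_one_right (Fintype.card F)
    · rw [cond_true]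
      refine Nat.Coprime.symm (Nat.Coprime.coprime_dvd_left (dvd_pow_self (Fintype.card F) (show 4 ≠ 0 by norm_num)) ?_)
      rw [Nat.coprime_comm]
      conv => arg 2; rw [show (Fintype.card F) ^ 4 = (Fintype.card F) ^ 4 - 1 + 1 by have := Nat.one_le_pow 4 (Fintype.card F) (by omega); omega]
      simp
  have hn1 : n ∣ (Fintype.card F) ^ 4 - 1 := hnq.dvd_of_dvd_mul_right hd1
  rcases Nat.even_or_odd n with he | ho
  · refine Nat.Coprime.dvd_of_dvd_mul_right ?_ (hd2' he)
    exact Nat.Coprime.mul_left (Nat.coprime_two_left.2 hqodd.pow) hnq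
  · exact (Nat.coprime_two_left.2 ho).mul_dvd_of_dvd_of_dvd
      (even_iff_two_dvd.1 (hqodd.pow.tsub_odd odd_one)) hn1

/-- From dimension nine to the extension. -/
theorem good_of_nine {g : ↥(Cfsg.isometryGroup F ⇑Q)} (hg : g ∈ Cfsg.Omega F ⇑Q) :
    Good p Q8 (orderOf g) := by
  classical
  have hpp : p.Prime := Fact.out
  set q := Fintype.card F with hq
  obtain ⟨b, N, hN, hord⟩ := Nat.exists_eq_pow_mul_and_not_dvd (orderOf_pos g).ne' p hpp.ne_one
  set s := g ^ p ^ b with hs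
  have hsN : s ^ N = 1 := by rw [hs, ← pow_mul, ← hord, pow_orderOf_eq_one]
  have hNF : (N : F) ≠ 0 := fun h => hN ((CharP.cast_eq_zero_iff F p N).1 h)
  obtain ⟨W, M, hW, hM, hWM, hdim, hWiff, hsM, hW', hM', hsplit⟩ := fix_split B.nd s hsN hNF
  obtain ⟨e', he'⟩ := even_moved h2 B.nd (pow_mem hg _) hM hWM hWiff hsM
  rw [B.nine] at hdim
  rcases Nat.eq_zero_or_pos (4 - e') with he0 | hepos
  swap
  · exact good_of_large p hp h2 B hg hN hord hW hM hWM hWiff hsM hW' hM' hsplit hepos (by omega)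
  have hW1 : finrank F W = 1 := by omega
  obtain ⟨w, hwW, hw0'⟩ := (Submodule.ne_bot_iff W).1 fun h => by rw [h, finrank_bot] at hW1; omega
  have hspan : W = span F {w} := (Submodule.eq_of_le_of_finrank_eq ((span_singleton_le_iff_mem _ _).2 hwW)
    (by rw [finrank_span_singleton hw0', hW1])).symm
  have hw0 : Q w ≠ 0 := fun h => by
    obtain ⟨y, hy, hwy⟩ := hW w hwW hw0'
    rw [hspan, mem_span_singleton] at hy
    obtain ⟨t, rfl⟩ := hy
    rw [map_smul, polar_diag, h, mul_zero, smul_zero] at hwy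
    exact hwy rfl
  set T := act Q g with hT
  have hTW : T w = w := by
    have hmem : T w ∈ W := (hWiff _).2 (by
      rw [hT, ← act_mul_apply, hs, ← pow_succ, pow_succ', act_mul_apply, ← hs, (hWiff w).1 hwW])
    rw [hspan, mem_span_singleton] at hmem
    obtain ⟨c, hc⟩ := hmem
    have hc2 : c * c = 1 := by
      have h := act_quad g w
      rw [← hT, ← hc, QuadraticMap.map_smul, smul_eq_mul] at h
      exact mul_right_cancel₀ hw0 (by rw [one_mul]; exact h)
    have hpow : ∀ i, (T ^ i) w = c ^ i • w := fun i => by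
      induction i with
      | zero => simp
      | succ i ih => rw [pow_succ, Module.End.mul_apply, ← hc, map_smul, ih, smul_smul, ← pow_succ']
    have hcb : c ^ p ^ b = 1 := by
      have h := (hWiff w).1 hwW
      rw [hs, map_pow, ← hT, hpow] at h
      exact (smul_eq_zero.1 (show (c ^ p ^ b - 1) • w = 0 by rw [sub_smul, one_smul, h, sub_self])).elim
        sub_eq_zero.1 (fun h => absurd h hw0')
    rcases mul_self_eq_one_iff.1 hc2 with rfl | rfl
    · rw [← hc, one_smul]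
    · rw [(hp.pow : Odd (p ^ b)).neg_one_pow] at hcb
      exact absurd (show (2 : F) = 0 by linear_combination -hcb) h2
  by_cases hsq : IsSquare (Q w)
  swap
  · exact (good_of_fixed p h2 B hsq hg hTW).1 _ dvd_rfl
  have hNp : ∀ C, Nat.Coprime (p ^ C) N := fun C => (hpp.coprime_iff_not_dvd.2 hN).pow_left C
  -- the two generalised eigenspaces
  have hone : ∀ (C : ℕ) v, ((T - 1) ^ C) v = 0 → v ∈ W := by
    intro C v hv
    have h1 : ((T - 1) ^ p ^ (b + C)) v = 0 := by
      obtain ⟨t, ht⟩ := Nat.exists_eq_add_of_le (show C ≤ p ^ (b + C) from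
        le_trans (Nat.lt_pow_self hpp.one_lt).le (Nat.pow_le_pow_right hpp.pos (Nat.le_add_left C b)))
      rw [ht, add_comm C t, pow_add, Module.End.mul_apply, hv, map_zero]
    rw [sub_one_pow_ppow p, LinearMap.sub_apply, Module.End.one_apply, sub_eq_zero, pow_add, pow_mul,
      hT, ← map_pow, ← hs] at h1
    exact (hWiff v).2 (fixed_of_coprime (act Q s) h1 (by rw [← map_pow, hsN, map_one]; rfl) (hNp C))
  obtain ⟨z, hz⟩ := exists_iso_of_map B.nd (-LinearMap.id) fun v => by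
    rw [LinearMap.neg_apply, LinearMap.id_apply, QuadraticMap.map_neg]
  have hzc : ∀ x : ↥(Cfsg.isometryGroup F ⇑Q), Commute z x := fun x => act_ext fun v => by
    rw [act_mul_apply, act_mul_apply, hz]; simp
  set t := z * s with ht
  have htN : t ^ (2 * N) = 1 := by
    rw [ht, (hzc s).mul_pow, mul_comm 2 N, pow_mul s, hsN, one_pow, mul_one, mul_comm N 2, pow_mul,
      show z ^ 2 = 1 from act_ext fun v => by rw [pow_two, act_mul_apply, hz, map_one]; simp, one_pow]
  have h2NF : ((2 * N : ℕ) : F) ≠ 0 := by rw [Nat.cast_mul, Nat.cast_two]; exact mul_ne_zero h2 hNF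
  obtain ⟨U, M', hU, -, -, -, hUiff, -, -, -, -⟩ := fix_split B.nd t htN h2NF
  have hUs : ∀ u, u ∈ U ↔ act Q s u = -u := fun u => by
    rw [hUiff, ht, act_mul_apply, hz, LinearMap.neg_apply, LinearMap.id_apply, neg_eq_iff_eq_neg]
  have hWU : ∀ x ∈ W, ∀ y ∈ U, QuadraticMap.polar (⇑Q) x y = 0 := fun x hx y hy => by
    have h := act_polar s x y
    rw [(hWiff x).1 hx, (hUs y).1 hy, QuadraticMap.polar_neg_right] at h
    have h' : (2 : F) * QuadraticMap.polar (⇑Q) x y = 0 := by linear_combination -h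
    exact (mul_eq_zero.1 h').resolve_left h2
  obtain ⟨R, -, hR, hRperp, -, hdimR, hRmem⟩ :=
    exists_perp (QuadType.sep_top B.nd) (sep_sup hW hU hWU) le_top
  rw [finrank_top, Module.finrank_fintype_fun_eq_card, B.nine, finrank_orth_sup hW hWU, hW1] at hdimR
  obtain ⟨IR, hIRi, hIRr, hndR⟩ := exists_coords hR rfl
  obtain ⟨kR, hkR⟩ := exists_restrict (Q := Q) hndR (I := IR) (fun _ => rfl) (g := s) fun v => by
    refine hIRr.ge (hRmem _ trivial fun x hx => ?_)
    obtain ⟨a, ha, c, hc, rfl⟩ := Submodule.mem_sup.1 hx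
    show QuadraticMap.polar (⇑Q) (a + c) (act Q s (IR v)) = 0
    have hIv : IR v ∈ R := hIRr.le (LinearMap.mem_range_self IR v)
    have ha' : QuadraticMap.polar (⇑Q) a (act Q s (IR v)) = 0 := by
      conv_lhs => rw [← (hWiff a).1 ha]
      rw [act_polar]
      exact hRperp a (Submodule.mem_sup_left ha) _ hIv
    have hc' : QuadraticMap.polar (⇑Q) c (act Q s (IR v)) = 0 := by
      conv_lhs => rw [show c = -(act Q s c) by rw [(hUs c).1 hc, neg_neg]]
      rw [QuadraticMap.polar_neg_left, act_polar, neg_eq_zero]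
      exact hRperp c (Submodule.mem_sup_right hc) _ hIv
    rw [QuadraticMap.polar_add_left, ha', hc', add_zero]
  have hRno : ∀ v, IR v ∈ W ⊔ U → v = 0 := fun v hv => by
    by_contra hv0
    obtain ⟨y, hy, hxy⟩ := hR (IR v) (hIRr.le (LinearMap.mem_range_self IR v)) fun h =>
      hv0 (hIRi (h.trans (map_zero IR).symm))
    exact hxy (hRperp _ hv y hy)
  obtain ⟨kR', hkR'⟩ := exists_iso_of_map hndR (-(act (Q.comp IR) kR)) fun v => by
    rw [LinearMap.neg_apply, QuadraticMap.map_neg, act_quad]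
  have hreven : Even (finrank F R) := by
    have h1 := det_eq_of_no_fixed hndR (g := kR) fun v hv =>
      hRno v (Submodule.mem_sup_left ((hWiff _).2 (by rw [← hkR, hv])))
    have h3 := det_eq_of_no_fixed hndR (g := kR') fun v hv => by
      refine hRno v (Submodule.mem_sup_right ((hUs _).2 ?_))
      rw [hkR', LinearMap.neg_apply, neg_eq_iff_eq_neg] at hv
      rw [← hkR, hv, map_neg]
    have hmat : mat (Q.comp IR) kR' = -mat (Q.comp IR) kR := Matrix.toLin'.injective (by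
      rw [map_neg]; exact hkR')
    rw [hmat, Matrix.det_neg, h1, Fintype.card_fin] at h3
    rcases Nat.even_or_odd (finrank F R) with h | h
    · exact h
    · rw [h.neg_one_pow] at h3
      exact absurd (show (2 : F) = 0 by linear_combination h3) h2
  set d := finrank F U with hd
  have hdeven : Even d := by
    obtain ⟨r, hr⟩ := hreven; exact ⟨4 - r, by omega⟩
  -- the root data
  set K := AlgebraicClosure F
  set S := rootsK K (mat Q g) with hS
  have hspec : Spec S q := spec_of_iso K p B.nine B.nd g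
  have hmg : ∀ μ : F, finrank F (T.maxGenEigenspace μ) = (mat Q g).charpoly.rootMultiplicity μ := fun μ => by
    rw [LinearMap.finrank_maxGenEigenspace_eq, ← Matrix.charpoly_toLin' (mat Q g)]; rfl
  have hc1 : 1 ≤ S.count 1 := by
    rw [← map_one (algebraMap F K), hS, rootsK_count, ← hmg, ← hW1]
    refine Submodule.finrank_mono fun v hv => ?_
    rw [hspan, mem_span_singleton] at hv
    obtain ⟨c, rfl⟩ := hv
    exact (Module.End.mem_maxGenEigenspace _ _ _).2 ⟨1, by
      rw [pow_one, one_smul, LinearMap.sub_apply, Module.End.one_apply, map_smul, hTW, sub_self]⟩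
  have hcn : d ≤ S.count (-1) := by
    rw [← map_one (algebraMap F K), ← map_neg, hS, rootsK_count, ← hmg]
    refine Submodule.finrank_mono fun v hv => ?_
    refine (Module.End.mem_maxGenEigenspace _ _ _).2 ⟨p ^ b, ?_⟩
    rw [show T - (-1 : F) • (1 : Module.End F (ι → F)) = T + 1 by module]
    have hpoly : ((X : F[X]) + 1) ^ p ^ b = X ^ p ^ b + 1 := by rw [add_pow_char_pow, one_pow]
    have h := congrArg (aeval T) hpoly
    simp only [map_pow, map_add, aeval_X, map_one] at h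
    rw [h, LinearMap.add_apply, Module.End.one_apply, hT, ← map_pow, ← hs, (hUs v).1 hv, neg_add_cancel]
  have hneg1 : (-1 : K) ≠ 1 := fun h => h2 ((algebraMap F K).injective (by
    rw [map_ofNat, map_zero]; linear_combination -h))
  have hp2 : p ≠ 2 := fun h => absurd (h ▸ hp) (by decide)
  have hqodd : Odd q := by
    obtain ⟨f, -, hf⟩ := FiniteField.card F p
    rw [hq, hf]; exact hp.pow
  have hq3 : 3 ≤ q := by
    have : 1 < q := Fintype.one_lt_card
    obtain ⟨r, hr⟩ := hqodd; omega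
  have hnegU : ∀ m, 1 ≤ m → d ≤ m + 1 → ∀ (C : ℕ) v, ((T + 1) ^ C) v = 0 → ((T + 1) ^ m) v = 0 := by
    intro m hm1 hm C v hv
    have h1 : ((T + 1) ^ p ^ (b + C)) v = 0 := by
      obtain ⟨r, hr⟩ := Nat.exists_eq_add_of_le (show C ≤ p ^ (b + C) from
        le_trans (Nat.lt_pow_self hpp.one_lt).le (Nat.pow_le_pow_right hpp.pos (Nat.le_add_left C b)))
      rw [hr, add_comm C r, pow_add, Module.End.mul_apply, hv, map_zero]
    have hpoly : ((X : F[X]) + 1) ^ p ^ (b + C) = X ^ p ^ (b + C) + 1 := by rw [add_pow_char_pow, one_pow]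
    have h := congrArg (aeval T) hpoly
    simp only [map_pow, map_add, aeval_X, map_one] at h
    rw [h, LinearMap.add_apply, Module.End.one_apply, pow_add, pow_mul, hT, ← map_pow, ← hs,
      ← eq_neg_iff_add_eq_zero] at h1
    -- `v` lies in `U`
    have htpow : ((act Q t) ^ p ^ C) v = v := by
      rw [← map_pow, ht, (hzc s).mul_pow, act_mul_apply, map_pow (act Q) s, h1, map_neg,
        show z ^ p ^ C = z by
          obtain ⟨r, hr⟩ := (hp.pow : Odd (p ^ C))
          rw [hr, pow_succ, pow_mul, show z ^ 2 = 1 from act_ext fun v => by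
            rw [pow_two, act_mul_apply, hz, map_one]; simp, one_pow, one_mul],
        hz, LinearMap.neg_apply, LinearMap.id_apply, neg_neg]
    have hvU : v ∈ U := (hUiff v).2 (fixed_of_coprime (act Q t) htpow
      (by rw [← map_pow, htN, map_one]; rfl)
      (Nat.Coprime.mul_right (Nat.Coprime.pow_left _ (Nat.coprime_two_right.2 hp)) (hNp C)))
    rcases Nat.eq_zero_or_pos d with hd0 | hdpos
    · rw [hd, Submodule.finrank_eq_zero] at hd0
      rw [hd0, Submodule.mem_bot] at hvU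
      rw [hvU, map_zero]
    obtain ⟨IU, hIUi, hIUr, hndU⟩ := exists_coords hU hd.symm
    have hIUmem : ∀ u, IU u ∈ U := fun u => hIUr.le (LinearMap.mem_range_self IU u)
    obtain ⟨kU, hkU⟩ := exists_restrict (Q := Q) hndU (I := IU) (fun _ => rfl) (g := g) fun u => by
      refine hIUr.ge ?_
      rw [hUs, ← act_mul_apply, hs, ← pow_succ, pow_succ', act_mul_apply, ← hs,
        (hUs _).1 (hIUmem u), map_neg]
    obtain ⟨kU', hkU'⟩ := exists_iso_of_map hndU (-(act (Q.comp IU) kU)) fun u => by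
      rw [LinearMap.neg_apply, QuadraticMap.map_neg, act_quad]
    have hcom : ∀ (i : ℕ) u, IU (((act (Q.comp IU) kU' - 1) ^ i) u) = (-1 : F) ^ i • ((T + 1) ^ i) (IU u) := by
      intro i
      induction i with
      | zero => intro u; simp
      | succ i ih =>
        intro u
        rw [pow_succ, Module.End.mul_apply, ih, LinearMap.sub_apply, hkU', LinearMap.neg_apply,
          Module.End.one_apply, map_sub, map_neg, hkU, ← hT, pow_succ, pow_succ (T + 1), Module.End.mul_apply,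
          show -(T (IU u)) - IU u = (-1 : F) • (T + 1) (IU u) by
            rw [LinearMap.add_apply, Module.End.one_apply]; module,
          map_smul, smul_smul]
    have hnil : IsNilpotent (act (Q.comp IU) kU' - 1) := by
      refine ⟨p ^ b, LinearMap.ext fun u => hIUi ?_⟩
      have hpoly' : ((X : F[X]) + 1) ^ p ^ b = X ^ p ^ b + 1 := by rw [add_pow_char_pow, one_pow]
      have h' := congrArg (aeval T) hpoly'
      simp only [map_pow, map_add, aeval_X, map_one] at h'
      rw [hcom, h', LinearMap.add_apply, Module.End.one_apply, hT, ← map_pow, ← hs,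
        (hUs _).1 (hIUmem u), neg_add_cancel, smul_zero, LinearMap.zero_apply,
        map_zero]
    obtain ⟨u, rfl⟩ : v ∈ LinearMap.range IU := hIUr.ge hvU
    have hz0 := hcom m u
    rw [pow_eq_zero_of_le (show d - 1 ≤ m by omega) (nil_index h2 hndU (Fintype.card_fin d) hdeven hdpos hnil),
      LinearMap.zero_apply, map_zero, eq_comm, smul_eq_zero] at hz0
    exact hz0.resolve_left (pow_ne_zero _ (neg_ne_zero.2 one_ne_zero))
  have honeT : ∀ (C : ℕ) v, ((T - 1) ^ C) v = 0 → T v = v := fun C v hv => by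
    have h := hone C v hv
    rw [hspan, mem_span_singleton] at h
    obtain ⟨c, rfl⟩ := h
    rw [map_smul, hTW]
  have hfin := fun {L c : ℕ} => good_of_target (Q := Q8) B.nd8 h2 p hp B.eight B.minus (L := L) (c := c)
  rcases classify hspec hqodd hq3 hneg1 hc1 hpp hp2 hdeven hcn with ⟨C, hk, hμ, hall⟩ |
    ⟨L, c, m, hT', hm1, hmc, hdm, hmult, hroots⟩
  · obtain ⟨x, hx⟩ : ∃ x, x ∈ C.T := Finset.card_pos.1 (by rw [C.card_T]; have := C.hk; omega)
    have hS0 : S.count (-1) = 0 := by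
      have := weight_one hspec hneg1 hc1 C
      rw [hk, hμ] at this; omega
    have hnS : x ∈ S := Multiset.count_pos.1 (by rw [C.count_eq x hx]; exact C.hμ)
    have hx1 : x ^ orderOf g = 1 := root_pow K (by rw [← orderOf_mat g, pow_orderOf_eq_one]) hnS
    have hox : 0 < orderOf x := Nat.pos_of_ne_zero fun h =>
      (orderOf_pos g).ne' (Nat.eq_zero_of_zero_dvd (h ▸ orderOf_dvd_of_pow_eq_one hx1))
    have hgx : orderOf g = orderOf x := by
      refine Nat.dvd_antisymm ?_ (orderOf_dvd_of_pow_eq_one hx1)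
      refine orderOf_dvd_of_pow_eq_one ?_
      have h := pow_eq_one_of_data K p h2 g (L := orderOf x) (c := 0) (m := 1) hox le_rfl (by simp)
        (fun y hy => by
          rcases hall y hy with rfl | hy'
          · exact one_pow _
          · exact orderOf_dvd_iff_pow_eq_one.1 (C.conj y hy' x hx ▸ dvd_rfl))
        (fun y hy h1 _ => by
          rcases hall y hy with rfl | hy'
          · exact absurd rfl h1
          · rw [C.count_eq y hy', hμ])
        honeT (hnegU 1 le_rfl (by omega))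
      simpa using h
    refine Good.of_dvd (hfin (L := Nat.lcm (q ^ 2 + 1) (q ^ 2 - 1)) (c := 0) (Or.inl ⟨rfl, Or.inl rfl⟩)) ?_
    rw [pow_zero, mul_one]
    exact good_of_big h2 B hqodd hg hw0 hsq hTW (fun C' v hv => hspan ▸ hone C' v hv) hk hx hall hgx
  · refine (hfin hT').of_dvd (orderOf_dvd_of_pow_eq_one ?_)
    refine pow_eq_one_of_data K p h2 g ?_ hm1 hmc hroots hmult honeT (hnegU m hm1 hdm)
    have hq1 : 9 ≤ q ^ 2 := by nlinarith
    have hq3' : 27 ≤ q ^ 3 := by nlinarith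
    have l0 : ∀ {x y : ℕ}, 0 < x → 0 < y → 0 < Nat.lcm x y := fun hx hy => Nat.lcm_pos hx hy
    rcases hT' with ⟨-, rfl | rfl | rfl⟩ | ⟨-, rfl | rfl | rfl⟩ | ⟨-, -, rfl⟩ | ⟨-, -, rfl⟩ <;>
      first
        | exact l0 (by omega) (by omega)
        | omega

end CfsgLib.OmegaNine
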