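import Cfsg.Agent.OmegaNineSpectrum.Count
import Cfsg.Agent.LinearElements.OrthStandard
import Cfsg.Agent.LinearElements.NonsingularPoints
import Cfsg.Agent.Forms.OrthNegOne
import Mathlib.FieldTheory.Finite.Extension

/-!
# Cyclic pieces

A `2 k`-dimensional space of either type has an isometry of determinant one and order `q ^ k ∓ 1` outside `Ω`:
multiplication by a field element, which acts freely and with an odd number of orbits on vectors of value one.
-/

set_option autoImplicit false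

namespace CfsgLib.OmegaNine

open Matrix Module QuadType OrthPrimePower OrthStandard CfsgLib.Spinor

variable {F : Type*} [Field F] [Fintype F]

/-- A piece: a form of dimension `d` and given type with an element of order `N`. -/
def HasPiece (F : Type*) [Field F] (d N : ℕ) (P : Prop) : Prop :=
  ∃ (Qm : QuadraticForm F (Fin d → F)) (h : ↥(Cfsg.isometryGroup F ⇑Qm)),
    (QuadraticMap.polarBilin Qm).Nondegenerate ∧ (Plus Qm ⊤ ↔ P) ∧ orderOf h = N ∧
      (mat Qm h).det = 1 ∧ h ∉ Cfsg.Omega F ⇑Qm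

section finish

variable {L : Type*} [AddCommGroup L] [Module F L] [FiniteDimensional F L]

theorem piece_of_free {d N m : ℕ} (hd : finrank F L = d) (hde : Even d) (hd0 : 0 < d) (QL : QuadraticForm F L)
    (hsep : ∀ x, (∀ y, QuadraticMap.polar (⇑QL) x y = 0) → x = 0) (T : Module.End F L)
    (hT : ∀ v, QL (T v) = QL v) (hTN : T ^ N = 1) (hN : Even N) (hN0 : 0 < N)
    (hfree : ∀ v, v ≠ 0 → ∀ l, (T ^ l) v = v → N ∣ l) (hm : Odd m)
    (hcard : Nat.card {v // QL v = 1} = N * m) {P : Prop} (hP : Plus QL ⊤ ↔ P) : HasPiece F d N P := by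
  let e : (Fin d → F) ≃ₗ[F] L := (Module.finBasisOfFinrankEq F L hd).equivFun.symm
  let Qm : QuadraticForm F (Fin d → F) := QL.comp (e : (Fin d → F) →ₗ[F] L)
  have hQm : ∀ v, Qm v = QL (e v) := fun _ => rfl
  have hnd : (QuadraticMap.polarBilin Qm).Nondegenerate := by
    refine StdForms.nondegenerate_of_sep _ fun x hx => e.map_eq_zero_iff.1 (hsep _ fun y => ?_)
    obtain ⟨y', rfl⟩ := e.surjective y
    have := hx y'
    simp only [QuadraticMap.polar, hQm, map_add] at this ⊢
    exact this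
  obtain ⟨h, hh⟩ := exists_iso_of_map hnd (e.symm.toLinearMap ∘ₗ T ∘ₗ e.toLinearMap) fun v => by
    simp [hQm, hT]
  have hpow : ∀ (l : ℕ) v, e (act Qm (h ^ l) v) = (T ^ l) (e v) := by
    intro l
    induction l with
    | zero => intro v; rw [pow_zero, map_one]; rfl
    | succ l ih => intro v; rw [pow_succ, act_mul_apply, ih, hh, pow_succ, Module.End.mul_apply]; simp
  have hfree' : ∀ v, v ≠ 0 → ∀ l, act Qm (h ^ l) v = v → N ∣ l := fun v hv l hl =>
    hfree (e v) (e.map_ne_zero_iff.2 hv) l (by rw [← hpow, hl])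
  obtain ⟨v₀, hv₀⟩ : ∃ v : Fin d → F, v ≠ 0 := ⟨fun _ => 1, fun e0 => one_ne_zero (congrFun e0 ⟨0, hd0⟩)⟩
  have hord : orderOf h = N := by
    refine Nat.dvd_antisymm (orderOf_dvd_of_pow_eq_one (act_ext fun v => e.injective ?_))
      (hfree' v₀ hv₀ _ (by rw [pow_orderOf_eq_one, map_one]; rfl))
    rw [hpow, hTN, map_one]; rfl
  refine ⟨Qm, h, hnd, ?_, hord, ?_, fun hΩ => ?_⟩
  · rw [← hP, ← plus_map (e : (Fin d → F) →ₗ[F] L) e.injective (fun v => (hQm v).symm),
      Submodule.map_top, LinearEquiv.range]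
  · rw [det_eq_of_no_fixed hnd fun v hv => ?_, Fintype.card_fin, hde.neg_one_pow]
    by_contra hv0
    have := Nat.le_of_dvd one_pos (hfree' v hv0 1 (by rwa [pow_one]))
    obtain ⟨j, hj⟩ := hN
    omega
  · have h2N := (count_dvd h 1 fun v hv l hl => hord.symm ▸ hfree' v (fun e0 => by
      rw [e0, QuadraticMap.map_zero] at hv; exact zero_ne_one hv) l hl).2 hΩ (hord ▸ hN)
    rw [hord, show Nat.card {v // Qm v = 1} = N * m from
      (Nat.card_congr (e.toEquiv.subtypeEquiv fun v => by rw [hQm]; rfl)).trans hcard, mul_comm 2 N] at h2N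
    exact (Nat.not_even_iff_odd.2 hm) (even_iff_two_dvd.2 ((Nat.mul_dvd_mul_iff_left hN0).1 h2N))

end finish

theorem exists_dual_one_ne_zero {E : Type*} [Field E] [Algebra F E] :
    ∃ τ : E →ₗ[F] F, τ 1 ≠ 0 := by
  by_contra hall
  push Not at hall
  exact one_ne_zero ((Module.forall_dual_apply_eq_zero_iff F (1 : E)).1 hall)

theorem piece_plus (p : ℕ) [Fact p.Prime] [CharP F p] (hq : Odd (Fintype.card F)) {k : ℕ} (hk : 0 < k) :
    HasPiece F (2 * k) (Fintype.card F ^ k - 1) True := by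
  classical
  haveI : NeZero k := ⟨hk.ne'⟩
  let E := FiniteField.Extension F p k
  haveI : Finite E := Module.finite_of_finite F
  haveI : Fintype E := Fintype.ofFinite E
  have hE : finrank F E = k := FiniteField.finrank_extension F p k
  have hq1 : 1 < Fintype.card F := Fintype.one_lt_card
  obtain ⟨τ, hτ⟩ := exists_dual_one_ne_zero (F := F) (E := E)
  let B : LinearMap.BilinForm F (E × E) :=
    LinearMap.mk₂ F (fun u v => τ (u.1 * v.2)) (fun u u' v => by simp [add_mul]) (fun c u v => by simp)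
      (fun u v v' => by simp [mul_add]) (fun c u v => by simp)
  let QL : QuadraticForm F (E × E) := LinearMap.BilinMap.toQuadraticMap B
  have hQL : ∀ v, QL v = τ (v.1 * v.2) := fun v => rfl
  obtain ⟨ζ, hζ⟩ := IsCyclic.exists_ofOrder_eq_natCard (α := Eˣ)
  rw [Nat.card_units, FiniteField.natCard_extension, Nat.card_eq_fintype_card] at hζ
  let T : Module.End F (E × E) :=
    (LinearMap.mulLeft F (ζ : E)).prodMap (LinearMap.mulLeft F ((ζ⁻¹ : Eˣ) : E))
  have hTl : ∀ (l : ℕ) (v : E × E), (T ^ l) v = (((ζ ^ l : Eˣ) : E) * v.1, ((ζ⁻¹ ^ l : Eˣ) : E) * v.2) := by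
    intro l
    induction l with
    | zero => intro v; simp
    | succ l ih => intro v; rw [pow_succ', Module.End.mul_apply, ih]; simp [T, pow_succ', mul_assoc]
  refine piece_of_free (m := Fintype.card F ^ (k - 1)) (by rw [Module.finrank_prod, hE]; omega) (even_two_mul k)
    (by omega) QL ?_ T (fun v => ?_) ?_ ?_ ?_ ?_ hq.pow ?_ ?_
  · rintro ⟨x, y⟩ h
    have h1 : ∀ z, τ (x * z) = 0 := fun z => by
      have := h (0, z)
      simpa [QuadraticMap.polar, hQL, mul_add] using this
    have h3 : ∀ z, τ (z * y) = 0 := fun z => by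
      have := h (z, 0)
      simpa [QuadraticMap.polar, hQL, add_mul] using this
    rw [Prod.mk_eq_zero]
    refine ⟨by_contra fun hx => hτ ?_, by_contra fun hy => hτ ?_⟩
    · rw [← mul_inv_cancel₀ hx, h1]
    · rw [← inv_mul_cancel₀ hy, h3]
  · rw [hQL, hQL]
    congr 1
    show (ζ : E) * v.1 * (((ζ⁻¹ : Eˣ) : E) * v.2) = _
    rw [mul_mul_mul_comm, Units.mul_inv, one_mul]
  · refine LinearMap.ext fun v => ?_
    rw [hTl, inv_pow, ← hζ, pow_orderOf_eq_one]
    simp
  · exact (hq.pow).tsub_odd odd_one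
  · have := Nat.one_lt_pow hk.ne' hq1
    omega
  · intro v hv l hl
    rw [hTl] at hl
    rw [← hζ]
    refine orderOf_dvd_of_pow_eq_one ?_
    by_cases h1 : v.1 = 0
    · have h3 : v.2 ≠ 0 := fun h3 => hv (Prod.ext h1 h3)
      have := congrArg Prod.snd hl
      rw [← inv_inv (ζ ^ l), ← inv_pow, inv_eq_one]
      exact Units.ext (mul_right_cancel₀ h3 (by rw [Units.val_one, one_mul]; exact this))
    · have := congrArg Prod.fst hl
      exact Units.ext (mul_right_cancel₀ h1 (by rw [Units.val_one, one_mul]; exact this))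
  · let e : {v // QL v = 1} ≃ Σ x : E, {y : E // (τ ∘ₗ LinearMap.mulLeft F x) y = 1} :=
      { toFun := fun v => ⟨v.1.1, v.1.2, v.2⟩
        invFun := fun s => ⟨(s.1, s.2.1), s.2.2⟩
        left_inv := fun v => rfl
        right_inv := fun s => rfl }
    rw [Nat.card_congr e, Nat.card_sigma, ← Finset.add_sum_erase _ _ (Finset.mem_univ (0 : E))]
    have h0 : Nat.card {y : E // (τ ∘ₗ LinearMap.mulLeft F 0) y = 1} = 0 := by
      haveI : IsEmpty {y : E // (τ ∘ₗ LinearMap.mulLeft F 0) y = 1} := ⟨fun y => by simpa using y.2⟩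
      exact Nat.card_of_isEmpty
    rw [h0, zero_add, Finset.sum_const_nat (m := Fintype.card F ^ (k - 1)) fun x hx => ?_,
      Finset.card_erase_of_mem (Finset.mem_univ _), Finset.card_univ, Module.card_eq_pow_finrank (K := F) (V := E), hE]
    have hne : (τ ∘ₗ LinearMap.mulLeft F x) ≠ 0 := fun e0 => hτ (by
      have := LinearMap.congr_fun e0 x⁻¹
      simpa [mul_inv_cancel₀ (Finset.ne_of_mem_erase hx)] using this)
    rw [CfsgLib.Forms.card_fiber _ hne, hE]
  · refine iff_true_intro ⟨LinearMap.range (LinearMap.inl F E E), le_top, ?_, ?_⟩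
    · rintro _ ⟨x, rfl⟩
      rw [hQL]; simp
    · rw [LinearMap.finrank_range_of_inj LinearMap.inl_injective, finrank_top, Module.finrank_prod]
      omega

theorem piece_minus (p : ℕ) [Fact p.Prime] [CharP F p] (hq : Odd (Fintype.card F)) {k : ℕ} (hk : 0 < k) :
    HasPiece F (2 * k) (Fintype.card F ^ k + 1) False := by
  classical
  haveI : NeZero (2 * k) := ⟨by omega⟩
  have h2 : (2 : F) ≠ 0 := Forms.two_ne_zero_of_odd rfl hq
  set q := Fintype.card F with hqd
  let L := FiniteField.Extension F p (2 * k)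
  haveI : Finite L := Module.finite_of_finite F
  haveI : Fintype L := Fintype.ofFinite L
  have hL : finrank F L = 2 * k := FiniteField.finrank_extension F p (2 * k)
  have hLc : Fintype.card L = q ^ (2 * k) := by rw [Module.card_eq_pow_finrank (K := F) (V := L), hL]
  have hq1 : 1 < q := Fintype.one_lt_card
  obtain ⟨τ, hτ⟩ := exists_dual_one_ne_zero (F := F) (E := L)
  let σ : L →ₐ[F] L := ((FiniteField.frobeniusAlgEquivOfAlgebraic F L) ^ k).toAlgHom
  have hσ : ∀ x, σ x = x ^ q ^ k := fun x => by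
    simp [σ, AlgEquiv.coe_pow, FiniteField.coe_frobeniusAlgEquivOfAlgebraic, pow_iterate, hqd]
  let B : LinearMap.BilinForm F L :=
    LinearMap.mk₂ F (fun u v => τ (u * σ v)) (fun u u' v => by simp [add_mul]) (fun c u v => by simp)
      (fun u v v' => by simp [mul_add]) (fun c u v => by simp)
  let QL : QuadraticForm F L := LinearMap.BilinMap.toQuadraticMap B
  have hQL : ∀ v, QL v = τ (v ^ (q ^ k + 1)) := fun v => by
    show τ (v * σ v) = _
    rw [hσ, pow_succ']
  obtain ⟨γ, hγ⟩ := IsCyclic.exists_ofOrder_eq_natCard (α := Lˣ)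
  rw [Nat.card_units, Nat.card_eq_fintype_card, hLc] at hγ
  have hsq : q ^ (2 * k) - 1 = (q ^ k + 1) * (q ^ k - 1) := by
    rw [mul_comm 2 k, pow_mul, show (q ^ k) ^ 2 - 1 = (q ^ k) ^ 2 - 1 ^ 2 by norm_num, Nat.sq_sub_sq]
  set ζ := γ ^ (q ^ k - 1) with hζdef
  have hζ : orderOf ζ = q ^ k + 1 := by
    rw [hζdef, orderOf_pow_of_dvd (by have := Nat.one_lt_pow hk.ne' hq1; omega) (by rw [hγ, hsq]; exact dvd_mul_left _ _),
      hγ, hsq, Nat.mul_div_cancel _ (by have := Nat.one_lt_pow hk.ne' hq1; omega)]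
  let T : Module.End F L := LinearMap.mulLeft F (ζ : L)
  have hTl : ∀ (l : ℕ) (v : L), (T ^ l) v = ((ζ ^ l : Lˣ) : L) * v := fun l v => by
    rw [LinearMap.pow_mulLeft]; simp
  have hfix : ∀ x : L, (x ^ (q ^ k + 1)) ^ q ^ k = x ^ (q ^ k + 1) := fun x => by
    rw [← pow_mul, show (q ^ k + 1) * q ^ k = q ^ (2 * k) + q ^ k by rw [two_mul, pow_add]; ring, pow_add, ← hLc,
      FiniteField.pow_card, pow_succ']
  obtain ⟨cnt, hcnt, hcnt1⟩ := OrthOrders.norm_fibre_count (F := F) hLc hk τ ⟨1, one_pow _, hτ⟩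
  have hone : Nat.card {v // QL v = 1} = (q ^ k + 1) * q ^ (k - 1) := by
    rw [← hcnt1 1 one_ne_zero, ← hcnt 1]
    refine Nat.card_congr (Equiv.subtypeEquivRight fun v => ?_)
    rw [hQL]
    refine ⟨fun h => ⟨fun h0 => ?_, h⟩, fun h => h.2⟩
    rw [h0, zero_pow (Nat.succ_ne_zero _), map_zero] at h
    exact zero_ne_one h
  have hsep : ∀ x, (∀ y, QuadraticMap.polar (⇑QL) x y = 0) → x = 0 := by
    intro x hx
    by_contra hx0
    set n := x ^ (q ^ k + 1) with hn
    have hn0 : n ≠ 0 := pow_ne_zero _ hx0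
    have h := hx (x * n⁻¹)
    have hpol : QuadraticMap.polar (⇑QL) x (x * n⁻¹) = τ (x * σ (x * n⁻¹)) + τ ((x * n⁻¹) * σ x) :=
      LinearMap.BilinMap.polar_toQuadraticMap (B := B) x (x * n⁻¹)
    rw [h, hσ, hσ, mul_pow, inv_pow, hn, hfix, ← hn, show x * (x ^ q ^ k * n⁻¹) = 1 by
      rw [← mul_assoc, ← pow_succ', ← hn, mul_inv_cancel₀ hn0], show x * n⁻¹ * x ^ q ^ k = 1 by
      rw [mul_right_comm, ← pow_succ', ← hn, mul_inv_cancel₀ hn0], ← two_mul] at hpol
    exact hτ ((mul_eq_zero.1 hpol.symm).resolve_left h2)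
  refine piece_of_free (m := q ^ (k - 1)) hL (even_two_mul k) (by omega) QL hsep T (fun v => ?_) ?_
    (hq.pow.add_odd odd_one) (by omega) ?_ hq.pow hone ?_
  · rw [hQL, hQL]
    show τ (((ζ : L) * v) ^ _) = _
    rw [mul_pow, ← Units.val_pow_eq_pow_val, ← hζ, pow_orderOf_eq_one, Units.val_one, one_mul]
  · exact LinearMap.ext fun v => by rw [hTl, ← hζ, pow_orderOf_eq_one]; simp
  · intro v hv l hl
    rw [hTl] at hl
    rw [← hζ]
    exact orderOf_dvd_of_pow_eq_one (Units.ext (mul_right_cancel₀ hv (by rw [hl, Units.val_one, one_mul])))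
  · rw [iff_false]
    intro hplus
    haveI : Finite (Fin k ⊕ Fin k → F) := inferInstance
    have hst := StdForms.plusQ_nondegenerate (F := F) k
    obtain ⟨e, he⟩ := iso_of_type (Q := QL) (Q' := StdForms.plusQ k F) k
      (fun w _ hw => by
        by_contra hall
        push Not at hall
        exact hw (hsep w fun y => hall y Submodule.mem_top))
      (QuadType.sep_top hst) (by rw [finrank_top, hL])
      (by rw [finrank_top, Module.finrank_fintype_fun_eq_card, Fintype.card_sum, Fintype.card_fin]; omega)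
      (iff_of_true hplus (plus_top_plusQ k))
    let E₀ : L ≃ (Fin k ⊕ Fin k → F) :=
      (Submodule.topEquiv.symm.toEquiv).trans (e.toEquiv.trans Submodule.topEquiv.toEquiv)
    have hE₀ : ∀ v, StdForms.plusQ k F (E₀ v) = QL v := fun v => he ⟨v, Submodule.mem_top⟩
    rw [Nat.card_congr (E₀.subtypeEquiv (q := fun w => StdForms.plusQ k F w = 1) fun v => by rw [hE₀]),
      show (fun w => StdForms.plusQ k F w = 1) = (fun w => Cfsg.quadFormPlus k F w = 1) from
        funext fun w => by rw [StdForms.plusQ_apply],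
      LinearElements.card_plus_value k one_ne_zero, ← hqd] at hone
    have := Nat.eq_of_mul_eq_mul_right (Nat.pow_pos (by omega)) hone
    omega

end CfsgLib.OmegaNine
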