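import Cfsg.Agent.OmegaNineSpectrum.Unipotent
import Cfsg.Agent.PrimeGraphBC.Eigen

/-!
# Annihilation from root data, and eigenvalue classes under Frobenius and inversion
-/

set_option autoImplicit false

namespace CfsgLib.OmegaNine

open Matrix Module Polynomial CfsgLib.Spinor CfsgLib.PrimeGraphBC

section annihilation

variable {F : Type*} [Field F] {ι : Type} [Fintype ι] [DecidableEq ι] {Q : QuadraticForm F (ι → F)}
  (K : Type*) [Field K] [IsAlgClosed K] [Algebra F K]

theorem rootsK_count (G : Matrix ι ι F) (c : F) [DecidableEq K] :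
    (rootsK K G).count (algebraMap F K c) = G.charpoly.rootMultiplicity c := by
  rw [rootsK, Polynomial.count_roots, ← eq_rootMultiplicity_map (algebraMap F K).injective]

/-- The `p`-th power order bound from root data. -/
theorem pow_eq_one_of_data [DecidableEq K] (p : ℕ) [Fact p.Prime] [CharP F p] (h2 : (2 : F) ≠ 0)
    (g : ↥(Cfsg.isometryGroup F ⇑Q)) {L c m : ℕ} (hL : 0 < L) (hm : 1 ≤ m) (hmc : m ≤ p ^ c)
    (hroots : ∀ x ∈ rootsK K (mat Q g), x ^ L = 1)
    (hmult : ∀ x ∈ rootsK K (mat Q g), x ≠ 1 → x ≠ -1 → (rootsK K (mat Q g)).count x ≤ m)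
    (hone : ∀ (C : ℕ) v, ((act Q g - 1) ^ C) v = 0 → act Q g v = v)
    (hneg : ∀ (C : ℕ) v, ((act Q g + 1) ^ C) v = 0 → ((act Q g + 1) ^ m) v = 0) :
    g ^ (L * p ^ c) = 1 := by
  set T := act Q g with hT
  set χ := (mat Q g).charpoly with hχ
  have hχ0 : χ ≠ 0 := (Matrix.charpoly_monic _).ne_zero
  obtain ⟨R₁, hR₁, hR₁'⟩ := χ.exists_eq_pow_rootMultiplicity_mul_and_not_dvd hχ0 1
  set c1 := χ.rootMultiplicity 1
  have hR₁0 : R₁ ≠ 0 := fun h => hR₁' (h ▸ dvd_zero _)
  obtain ⟨R, hR, hR'⟩ := R₁.exists_eq_pow_rootMultiplicity_mul_and_not_dvd hR₁0 (-1)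
  set c2 := R₁.rootMultiplicity (-1)
  have hR0 : R ≠ 0 := fun h => hR' (h ▸ dvd_zero _)
  have hR1 : R.eval 1 ≠ 0 := fun h => hR₁' (by
    rw [dvd_iff_isRoot, IsRoot, hR, eval_mul, h, mul_zero])
  have hRn : R.eval (-1) ≠ 0 := fun h => hR' (dvd_iff_isRoot.2 h)
  have hfac : χ = (X - C 1) ^ c1 * ((X - C (-1)) ^ c2 * R) := by rw [← hR, ← hR₁]
  set m1 := min c1 1
  set m2 := min c2 m
  set P := (X - C (1 : F)) ^ m1 * ((X - C (-1)) ^ m2 * R) with hP
  -- `P` annihilates `T`
  have haev : aeval T χ = 0 := by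
    show aeval (Matrix.toLinAlgEquiv' (mat Q g)) χ = 0
    rw [Polynomial.aeval_algEquiv, AlgHom.comp_apply, hχ, Matrix.aeval_self_charpoly, map_zero]
  have hPT : aeval T P = 0 := by
    refine LinearMap.ext fun v => ?_
    set z := aeval T R v with hz
    have hz0 : aeval T ((X - C (1 : F)) ^ c1 * (X - C (-1)) ^ c2) z = 0 := by
      rw [hz, ← Module.End.mul_apply, ← map_mul, mul_assoc, ← hfac, haev, LinearMap.zero_apply]
    obtain ⟨a, b, hab⟩ : IsCoprime ((X - C (1 : F)) ^ c1) ((X - C (-1 : F)) ^ c2) :=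
      (isCoprime_X_sub_C_of_isUnit_sub (by
        rw [sub_neg_eq_add, one_add_one_eq_two]; exact isUnit_iff_ne_zero.2 h2)).pow
    have hsplit : z = aeval T (a * (X - C (1 : F)) ^ c1) z + aeval T (b * (X - C (-1 : F)) ^ c2) z := by
      rw [← LinearMap.add_apply, ← map_add, hab, map_one]; rfl
    have hC1 : aeval T (X - C (1 : F)) = T - 1 := by simp
    have hCn : aeval T (X - C (-1 : F)) = T + 1 := by simp
    have hz1 : aeval T ((X - C (-1 : F)) ^ m2) (aeval T (a * (X - C (1 : F)) ^ c1) z) = 0 := by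
      have h0 : ((T + 1) ^ c2) (aeval T (a * (X - C (1 : F)) ^ c1) z) = 0 := by
        rw [← hCn, ← map_pow, ← Module.End.mul_apply, ← map_mul,
          show (X - C (-1 : F)) ^ c2 * (a * (X - C 1) ^ c1) = a * ((X - C 1) ^ c1 * (X - C (-1)) ^ c2) by ring,
          map_mul, Module.End.mul_apply, hz0, map_zero]
      rw [map_pow, hCn]
      rcases le_total c2 m with h | h
      · rw [show m2 = c2 from min_eq_left h]; exact h0
      · rw [show m2 = m from min_eq_right h]; exact hneg c2 _ h0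
    have hz2 : aeval T ((X - C (1 : F)) ^ m1) (aeval T (b * (X - C (-1 : F)) ^ c2) z) = 0 := by
      have h0 : ((T - 1) ^ c1) (aeval T (b * (X - C (-1 : F)) ^ c2) z) = 0 := by
        rw [← hC1, ← map_pow, ← Module.End.mul_apply, ← map_mul,
          show (X - C (1 : F)) ^ c1 * (b * (X - C (-1)) ^ c2) = b * ((X - C 1) ^ c1 * (X - C (-1)) ^ c2) by ring,
          map_mul, Module.End.mul_apply, hz0, map_zero]
      rw [map_pow, hC1]
      rcases Nat.eq_zero_or_pos c1 with h | h
      · rw [show m1 = 0 by simp [m1, h]]; rw [h] at h0; exact h0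
      · rw [show m1 = 1 by simp [m1]; omega, pow_one, LinearMap.sub_apply, hone c1 _ h0]
        simp
    rw [hP, ← mul_assoc, map_mul, Module.End.mul_apply, ← hz, hsplit, map_add, LinearMap.zero_apply]
    conv_lhs => arg 1; rw [map_mul, Module.End.mul_apply, hz1, map_zero]
    rw [zero_add, mul_comm ((X - C (1 : F)) ^ m1), map_mul, Module.End.mul_apply, hz2, map_zero]
  -- `P` divides `X ^ (L * p ^ c) - 1`
  have hPdvd : P ∣ X ^ (L * p ^ c) - 1 := by
    rw [← map_dvd_map' (algebraMap F K)]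
    have hP0 : P ≠ 0 := mul_ne_zero (pow_ne_zero _ (X_sub_C_ne_zero _))
      (mul_ne_zero (pow_ne_zero _ (X_sub_C_ne_zero _)) hR0)
    have hPχ : P ∣ χ := by
      rw [hfac, hP]
      exact mul_dvd_mul (pow_dvd_pow _ (min_le_left _ _)) (mul_dvd_mul (pow_dvd_pow _ (min_le_left _ _)) dvd_rfl)
    haveI : CharP K p := charP_of_injective_algebraMap (algebraMap F K).injective p
    have hpl : Polynomial.map (algebraMap F K) (X ^ (L * p ^ c) - 1) = (X ^ L - 1) ^ p ^ c := by
      rw [Polynomial.map_sub, Polynomial.map_pow, Polynomial.map_X, Polynomial.map_one, sub_pow_char_pow, one_pow,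
        ← pow_mul]
    have hXL : (X : K[X]) ^ L - 1 ≠ 0 := by simpa using X_pow_sub_C_ne_zero hL (1 : K)
    rw [hpl, IsAlgClosed.dvd_iff_roots_le_roots (Polynomial.map_ne_zero hP0) (pow_ne_zero _ hXL),
      Multiset.le_iff_count]
    intro x
    by_cases hx : x ∈ (P.map (algebraMap F K)).roots
    swap
    · rw [Multiset.count_eq_zero.2 hx]; exact Nat.zero_le _
    have hxS : x ∈ rootsK K (mat Q g) :=
      Multiset.mem_of_le (roots.le_of_dvd (Polynomial.map_ne_zero hχ0) (Polynomial.map_dvd _ hPχ)) hx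
    have hpos : 1 ≤ ((X : K[X]) ^ L - 1).roots.count x := Multiset.one_le_count_iff_mem.2
      ((mem_roots hXL).2 (by simp [IsRoot, hroots x hxS]))
    rw [roots_pow, Multiset.count_nsmul]
    refine le_trans ?_ ((le_of_eq (mul_one _).symm).trans (Nat.mul_le_mul_left _ hpos))
    refine le_trans ?_ hmc
    by_cases hx1 : x = 1
    · subst hx1
      rw [count_roots, ← map_one (algebraMap F K), ← eq_rootMultiplicity_map (algebraMap F K).injective, hP,
        rootMultiplicity_mul (hP ▸ hP0), rootMultiplicity_X_sub_C_pow,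
        rootMultiplicity_eq_zero (p := (X - C (-1 : F)) ^ m2 * R) (by
          simp [IsRoot, hR1, one_add_one_eq_two, h2]), add_zero]
      exact (min_le_right _ _).trans hm
    by_cases hxn : x = -1
    · subst hxn
      rw [count_roots, ← map_one (algebraMap F K), ← map_neg,
        ← eq_rootMultiplicity_map (algebraMap F K).injective, hP,
        rootMultiplicity_mul (hP ▸ hP0), rootMultiplicity_mul (mul_ne_zero
          (pow_ne_zero _ (X_sub_C_ne_zero _)) hR0), rootMultiplicity_X_sub_C_pow,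
        rootMultiplicity_eq_zero (p := R) (by simp [IsRoot, hRn]),
        rootMultiplicity_eq_zero (p := (X - C (1 : F)) ^ m1) (by
          simp [IsRoot, show (-1 : F) - 1 ≠ 0 from fun e => h2 (by linear_combination -e)]),
        zero_add, add_zero]
      exact min_le_right _ _
    exact (Multiset.count_le_of_le x (roots.le_of_dvd (Polynomial.map_ne_zero hχ0)
      (Polynomial.map_dvd _ hPχ))).trans (hmult x hxS hx1 hxn)
  refine act_injective ?_
  obtain ⟨P', hP'⟩ := hPdvd
  have := congrArg (aeval T) hP'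
  rw [map_mul, hPT, zero_mul, map_sub, map_pow, aeval_X, map_one, sub_eq_zero] at this
  rw [map_pow, map_one, ← hT, this]

end annihilation

/-- The multiset of eigenvalues of an isometry in dimension nine. -/
structure Spec {K : Type*} [Field K] [DecidableEq K] (S : Multiset K) (q : ℕ) : Prop where
  card9 : Multiset.card S = 9
  frob : ∀ x ∈ S, x ^ q ∈ S
  inv : ∀ x ∈ S, x⁻¹ ∈ S
  count_frob : ∀ x, S.count (x ^ q) = S.count x
  count_inv : ∀ x, S.count x⁻¹ = S.count x
  ne_zero : ∀ x ∈ S, x ≠ 0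
  pow_inj : ∀ x y : K, x ^ q = y ^ q → x = y

theorem spec_of_iso {F : Type*} [Field F] [Fintype F] {ι : Type} [Fintype ι] [DecidableEq ι]
    {Q : QuadraticForm F (ι → F)} (K : Type*) [Field K] [IsAlgClosed K] [Algebra F K] [DecidableEq K]
    (p : ℕ) [Fact p.Prime] [CharP F p]
    (hι : Fintype.card ι = 9) (hQ : (QuadraticMap.polarBilin Q).Nondegenerate)
    (g : ↥(Cfsg.isometryGroup F ⇑Q)) : Spec (rootsK K (mat Q g)) (Fintype.card F) := by
  have hB := isUnit_gram hQ
  have hform := form_mat g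
  refine ⟨(card_rootsK K _).trans hι, fun x hx => frob_mem K _ hx, fun x hx => inv_mem hB hform hx, fun x => ?_,
    fun x => ?_, fun x hx h0 => ?_, fun x y h => ?_⟩
  · rw [rootsK, count_roots, count_roots]
    exact Roots57.rootMultiplicity_frobenius _ _
  · conv_lhs => rw [← roots_map_inv (isUnit_of_isometry hB hform) hB hform]
    exact Multiset.count_map_eq_count' _ _ inv_injective _
  · have h1 := root_pow K (G := mat Q g) (N := orderOf g) (by
      rw [← orderOf_mat g, pow_orderOf_eq_one]) hx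
    rw [h0, zero_pow (orderOf_pos g).ne'] at h1
    exact zero_ne_one h1
  · haveI : CharP K p := charP_of_injective_algebraMap (algebraMap F K).injective p
    obtain ⟨f, -, hf⟩ := FiniteField.card F p
    rw [hf] at h
    refine sub_eq_zero.1 (eq_zero_of_pow_eq_zero (n := p ^ (f : ℕ)) ?_)
    rw [sub_pow_char_pow, h, sub_self]

/-- The exponent attached to a class. -/
def expnt (q k : ℕ) (ε : Bool) : ℕ := bif ε then q ^ k - 1 else q ^ k + 1

/-- A class of eigenvalues different from `±1` under Frobenius and inversion. -/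
structure Cls {K : Type*} [Field K] [DecidableEq K] (S : Multiset K) (q : ℕ) where
  T : Finset K
  k : ℕ
  μ : ℕ
  ε : Bool
  hk : 0 < k
  hμ : 0 < μ
  card_T : T.card = 2 * k
  count_eq : ∀ y ∈ T, S.count y = μ
  exp_eq : ∀ y ∈ T, y ^ expnt q k ε = 1
  ne_pm : ∀ y ∈ T, y ≠ 1 ∧ y ≠ -1
  closed : ∀ y, y ^ q ∈ T → y ∈ T
  closed' : ∀ y ∈ T, y ^ q ∈ T ∧ y⁻¹ ∈ T
  conj : ∀ y ∈ T, ∀ z ∈ T, orderOf y = orderOf z
  orbit : ∀ U : Finset K, (∀ y, y ^ q ∈ U → y ∈ U) → (∀ y ∈ U, y ^ q ∈ U ∧ y⁻¹ ∈ U) → ∀ z ∈ T, z ∈ U → T ⊆ U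

variable {K : Type*} [Field K] [DecidableEq K] {S : Multiset K} {q : ℕ}

theorem Spec.pow_inj_iter (H : Spec S q) : ∀ (n : ℕ) (x y : K), x ^ q ^ n = y ^ q ^ n → x = y
  | 0, x, y, h => by simpa using h
  | n + 1, x, y, h => by
    rw [pow_succ, pow_mul, pow_mul] at h
    exact H.pow_inj_iter n x y (H.pow_inj _ _ h)

theorem Spec.exists_cls (H : Spec S q) (hq : 2 ≤ q) {x : K} (hx : x ∈ S) (h1 : x ≠ 1) (hn : x ≠ -1) :
    ∃ C : Cls S q, x ∈ C.T := by
  classical
  have hxi : ∀ i, x ^ q ^ i ∈ S := fun i => by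
    induction i with
    | zero => simpa using hx
    | succ i ih => rw [pow_succ, pow_mul]; exact H.frob _ ih
  have hci : ∀ i, S.count (x ^ q ^ i) = S.count x := fun i => by
    induction i with
    | zero => simp
    | succ i ih => rw [pow_succ, pow_mul, H.count_frob, ih]
  have hx0 := H.ne_zero x hx
  have hne : x ≠ x⁻¹ := fun e => by
    have : x * x = 1 := by nth_rw 2 [e]; exact mul_inv_cancel₀ hx0
    rcases mul_self_eq_one_iff.1 this with h | h
    · exact h1 h
    · exact hn h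
  have hex : ∃ d, 0 < d ∧ (x ^ q ^ d = x ∨ x ^ q ^ d = x⁻¹) := by
    obtain ⟨i, j, hij, e⟩ := Finite.exists_ne_map_eq_of_infinite
      (fun i : ℕ => (⟨x ^ q ^ i, Multiset.mem_toFinset.2 (hxi i)⟩ : S.toFinset))
    have e' : x ^ q ^ i = x ^ q ^ j := congrArg Subtype.val e
    rcases lt_or_gt_of_ne hij with h | h
    · refine ⟨j - i, by omega, Or.inl (H.pow_inj_iter i _ _ ?_)⟩
      rw [← pow_mul, ← pow_add, Nat.sub_add_cancel h.le, e']
    · refine ⟨i - j, by omega, Or.inl (H.pow_inj_iter j _ _ ?_)⟩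
      rw [← pow_mul, ← pow_add, Nat.sub_add_cancel h.le, e']
  set k := Nat.find hex with hk
  obtain ⟨hk0, hkx⟩ := Nat.find_spec hex
  have hmin : ∀ d, 0 < d → d < k → x ^ q ^ d ≠ x ∧ x ^ q ^ d ≠ x⁻¹ := fun d hd hdk =>
    ⟨fun e => Nat.find_min hex hdk ⟨hd, Or.inl e⟩, fun e => Nat.find_min hex hdk ⟨hd, Or.inr e⟩⟩
  let f : Bool × Fin k → K := fun z => bif z.1 then x ^ q ^ (z.2 : ℕ) else (x ^ q ^ (z.2 : ℕ))⁻¹
  have hcore : ∀ i j : Fin k, i ≤ j →
      (x ^ q ^ (i : ℕ) = x ^ q ^ (j : ℕ) → i = j) ∧ x ^ q ^ (i : ℕ) ≠ (x ^ q ^ (j : ℕ))⁻¹ := by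
    intro i j hij
    have hj : (x ^ q ^ (j : ℕ)) = (x ^ q ^ ((j : ℕ) - i)) ^ q ^ (i : ℕ) := by
      rw [← pow_mul, ← pow_add, Nat.sub_add_cancel hij]
    constructor
    · intro e
      rw [hj] at e
      by_contra hne'
      exact (hmin ((j : ℕ) - i) (by have := Fin.val_injective.ne hne'; have : (i : ℕ) ≤ j := hij; omega)
        (by have := j.2; omega)).1 (H.pow_inj_iter _ _ _ e).symm
    · intro e
      rw [hj, ← inv_pow] at e
      have e' := H.pow_inj_iter _ _ _ e
      rcases Nat.eq_zero_or_pos ((j : ℕ) - i) with h0 | h0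
      · rw [h0, pow_zero, pow_one] at e'
        exact hne e'
      · exact (hmin _ h0 (by have := j.2; omega)).2 (inv_eq_iff_eq_inv.2 e').symm
  have hf : Function.Injective f := by
    rintro ⟨a, i⟩ ⟨b, j⟩ e
    rcases le_total i j with hij | hij <;> obtain ⟨hA, hB⟩ := hcore _ _ hij <;> cases a <;> cases b <;>
      simp only [f, cond_true, cond_false] at e
    · rw [hA (inv_injective e)]
    · exact absurd (by rw [← e, inv_inv]) hB
    · exact absurd e hB
    · rw [hA e]
    · rw [hA (inv_injective e).symm]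
    · exact absurd e.symm hB
    · exact absurd (by rw [e, inv_inv]) hB
    · rw [hA e.symm]
  set T := Finset.univ.image f with hT
  have hmem : ∀ {y}, y ∈ T ↔ ∃ i : Fin k, y = x ^ q ^ (i : ℕ) ∨ y = (x ^ q ^ (i : ℕ))⁻¹ := by
    intro y
    simp only [hT, Finset.mem_image, Finset.mem_univ, true_and]
    constructor
    · rintro ⟨⟨a, i⟩, rfl⟩; cases a <;> simp only [f, cond_true, cond_false]
      · exact ⟨i, Or.inr rfl⟩
      · exact ⟨i, Or.inl rfl⟩
    · rintro ⟨i, rfl | rfl⟩
      · exact ⟨(true, i), rfl⟩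
      · exact ⟨(false, i), rfl⟩
  have hforward : ∀ y ∈ T, y ^ q ∈ T ∧ y⁻¹ ∈ T := by
    intro y hy
    obtain ⟨i, hi⟩ := hmem.1 hy
    refine ⟨?_, hmem.2 ⟨i, ?_⟩⟩
    · by_cases hlt : (i : ℕ) + 1 < k
      · refine hmem.2 ⟨⟨i + 1, hlt⟩, ?_⟩
        rcases hi with rfl | rfl
        · exact Or.inl (by rw [← pow_mul, ← pow_succ])
        · exact Or.inr (by rw [inv_pow, ← pow_mul, ← pow_succ])
      · have hik : (i : ℕ) + 1 = k := by have := i.2; omega
        refine hmem.2 ⟨⟨0, hk0⟩, ?_⟩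
        simp only [pow_zero, pow_one]
        rcases hi with rfl | rfl
        · rw [← pow_mul, ← pow_succ, hik]; exact hkx
        · rw [inv_pow, ← pow_mul, ← pow_succ, hik]
          rcases hkx with h | h
          · exact Or.inr (by rw [h])
          · exact Or.inl (by rw [h, inv_inv])
    · rcases hi with rfl | rfl
      · exact Or.inr rfl
      · exact Or.inl (inv_inv _)
  have hsurj : T.image (fun y => y ^ q) = T := by
    refine Finset.eq_of_subset_of_card_le (fun z hz => ?_) (le_of_eq ?_)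
    · obtain ⟨y, hy, rfl⟩ := Finset.mem_image.1 hz
      exact (hforward y hy).1
    · rw [Finset.card_image_of_injective _ fun a b h => H.pow_inj a b h]
  have hxT : x ∈ T := hmem.2 ⟨⟨0, hk0⟩, Or.inl (by simp)⟩
  have hcnt : ∀ y ∈ T, S.count y = S.count x := by
    intro y hy
    obtain ⟨i, rfl | rfl⟩ := hmem.1 hy
    · exact hci i
    · rw [H.count_inv, hci]
  have hord : ∀ y ∈ T, orderOf y = orderOf x := by
    intro y hy
    rw [orderOf_eq_orderOf_iff]
    intro n
    obtain ⟨i, rfl | rfl⟩ := hmem.1 hy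
    · exact ⟨fun e => H.pow_inj_iter i _ _ (by rw [one_pow, ← pow_mul, mul_comm, pow_mul, e]),
        fun e => by rw [← pow_mul, mul_comm, pow_mul, e, one_pow]⟩
    · rw [inv_pow, inv_eq_one]
      exact ⟨fun e => H.pow_inj_iter i _ _ (by rw [one_pow, ← pow_mul, mul_comm, pow_mul, e]),
        fun e => by rw [← pow_mul, mul_comm, pow_mul, e, one_pow]⟩
  obtain ⟨ε, hε⟩ : ∃ ε : Bool, x ^ expnt q k ε = 1 := by
    rcases hkx with h | h
    · refine ⟨true, mul_right_cancel₀ hx0 ?_⟩
      rw [expnt, cond_true, ← pow_succ, Nat.sub_add_cancel (Nat.one_le_pow _ _ (by omega)), one_mul]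
      exact h
    · refine ⟨false, ?_⟩
      rw [expnt, cond_false, pow_succ]
      show x ^ q ^ Nat.find hex * x = 1
      rw [h, inv_mul_cancel₀ hx0]
  refine ⟨⟨T, k, S.count x, ε, hk0, Multiset.count_pos.2 hx, ?_, hcnt, fun y hy => ?_, fun y hy => ⟨?_, ?_⟩,
    fun y hy => ?_, hforward, fun y hy z hz => (hord y hy).trans (hord z hz).symm, fun U hb hc z hz hzU => ?_⟩, hxT⟩
  · rw [hT, Finset.card_image_of_injective _ hf, Finset.card_univ, Fintype.card_prod, Fintype.card_bool,
      Fintype.card_fin]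
  · exact orderOf_dvd_iff_pow_eq_one.1 ((hord y hy) ▸ orderOf_dvd_of_pow_eq_one hε)
  · rintro rfl
    have h := hord 1 hy
    rw [orderOf_one, eq_comm, orderOf_eq_one_iff] at h
    exact h1 h
  · rintro rfl
    have h := hord (-1) hy
    have h2 : x ^ 2 = 1 := orderOf_dvd_iff_pow_eq_one.1 (h ▸ orderOf_dvd_of_pow_eq_one (by simp))
    rcases mul_self_eq_one_iff.1 ((pow_two x).symm.trans h2) with e | e
    · exact h1 e
    · exact hn e
  · rw [← hsurj, Finset.mem_image] at hy
    obtain ⟨z, hz, e⟩ := hy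
    rwa [← H.pow_inj _ _ e]
  · have hback : ∀ i, x ^ q ^ i ∈ U → x ∈ U := fun i => by
      induction i with
      | zero => simp
      | succ i ih => exact fun h => ih (hb _ (by rwa [← pow_mul, ← pow_succ]))
    have hxU : x ∈ U := by
      obtain ⟨i, rfl | rfl⟩ := hmem.1 hz
      · exact hback i hzU
      · exact hback i (by have := (hc _ hzU).2; rwa [inv_inv] at this)
    have hfw : ∀ i, x ^ q ^ i ∈ U := fun i => by
      induction i with
      | zero => simpa using hxU
      | succ i ih => rw [pow_succ, pow_mul]; exact (hc _ ih).1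
    intro y hy
    obtain ⟨i, rfl | rfl⟩ := hmem.1 hy
    · exact hfw i
    · exact (hc _ (hfw i)).2

end CfsgLib.OmegaNine
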