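import Cfsg.Agent.OmegaNineSpectrum.Nine
import Cfsg.Agent.PrimeGraphBC.OrthAdj

/-!
# The standard forms in dimensions nine and eight
-/

set_option autoImplicit false

namespace CfsgLib.OmegaNine

open Matrix Module CfsgLib.Spinor CfsgLib.StdForms

variable {F : Type*} [Field F] [Fintype F]

theorem disc_not_square (h2 : (2 : F) ≠ 0) {a b : F}
    (hab : ∀ z₁ z₂ : F, z₁ ^ 2 + a * z₁ * z₂ + b * z₂ ^ 2 = 0 → z₁ = 0 ∧ z₂ = 0) : ¬ IsSquare (a ^ 2 - 4 * b) := by
  rintro ⟨s, hs⟩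
  refine one_ne_zero (hab ((s - a) / 2) 1 ?_).2
  field_simp
  linear_combination -hs

theorem perp_transport {ι κ : Type} [Fintype ι] [DecidableEq ι] [Fintype κ] [DecidableEq κ]
    {Q : QuadraticForm F (ι → F)} {Q' : QuadraticForm F (κ → F)} (h2 : (2 : F) ≠ 0) {w₀ w : ι → F}
    (hw₀ : Q w₀ ≠ 0) (hw : Q w ≠ 0) (hsq : IsSquare (Q w / Q w₀)) (I₀ : (κ → F) →ₗ[F] (ι → F))
    (hI₀ : ∀ v, Q (I₀ v) = Q' v)
    (hperp : ∀ x, QuadraticMap.polar (⇑Q) x w₀ = 0 ↔ x ∈ LinearMap.range I₀) :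
    ∃ I : (κ → F) →ₗ[F] (ι → F), (∀ v, Q (I v) = Q' v) ∧
      ∀ x, QuadraticMap.polar (⇑Q) x w = 0 ↔ x ∈ LinearMap.range I := by
  obtain ⟨c, hc⟩ := hsq
  have hc0 : c ≠ 0 := fun h => by
    rw [h, mul_zero] at hc
    exact div_ne_zero hw hw₀ hc
  have hQc : Q (c • w₀) = Q w := by
    rw [QuadraticMap.map_smul, smul_eq_mul, ← hc, div_mul_cancel₀ _ hw₀]
  obtain ⟨h, -, hh, -⟩ := Spinor.exists_move (Q := Q) h2 (u := w) (w := c • w₀) hw hQc
  rw [← act_apply] at hh
  refine ⟨(act Q h) ∘ₗ I₀, fun v => (act_quad h _).trans (hI₀ v), fun x => ?_⟩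
  have hx : act Q h (act Q h⁻¹ x) = x := by rw [← act_mul_apply, mul_inv_cancel, map_one]; rfl
  conv_lhs => rw [← hx, ← hh, act_polar, QuadraticMap.polar_smul_right, smul_eq_zero, or_iff_right hc0, hperp]
  constructor
  · rintro ⟨v, hv⟩
    exact ⟨v, by rw [LinearMap.comp_apply, hv, hx]⟩
  · rintro ⟨v, hv⟩
    exact ⟨v, by rw [← hv, LinearMap.comp_apply, act_inv_apply]⟩

theorem isSquare_div_of_not {x y : F} (hx : ¬ IsSquare x) (hy : ¬ IsSquare y) : IsSquare (x / y) := by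
  classical
  have hy0 : y ≠ 0 := fun h => hy (h ▸ IsSquare.zero)
  have hx0 : x ≠ 0 := fun h => hx (h ▸ IsSquare.zero)
  have h1 := (quadraticChar_neg_one_iff_not_isSquare (F := F)).2 hx
  have h2 := (quadraticChar_neg_one_iff_not_isSquare (F := F)).2 hy
  have h3 : quadraticChar F (x / y) * quadraticChar F y = quadraticChar F x := by
    rw [← map_mul, div_mul_cancel₀ _ hy0]
  rw [h1, h2] at h3
  exact (quadraticChar_one_iff_isSquare (div_ne_zero hx0 hy0)).1 (by omega)

theorem bridge (h2 : (2 : F) ≠ 0) {a b : F}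
    (hab : ∀ z₁ z₂ : F, z₁ ^ 2 + a * z₁ * z₂ + b * z₂ ^ 2 = 0 → z₁ = 0 ∧ z₂ = 0) :
    Bridge (oddQ 4 F) (minusQ 3 F a b) := by
  classical
  set D := a ^ 2 - 4 * b with hD
  have hDns : ¬ IsSquare D := disc_not_square h2 hab
  have hD0 : D ≠ 0 := fun h => hDns (h ▸ IsSquare.zero)
  have h4 : (4 : F) ≠ 0 := by
    intro h; exact mul_ne_zero h2 h2 (by linear_combination h)
  refine ⟨by simp, by simp, OrthStandard.not_plus_top_minusQ 3 hab, oddQ_nondegenerate h2 4,
    minusQ_nondegenerate 3 hD0, fun w hw => ?_, fun w hw0 hw => ?_⟩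
  · let w₀ : Unit ⊕ (Fin 4 ⊕ Fin 4) → F :=
      Sum.elim (fun _ => 0) (Sum.elim ![0, 0, 0, 1] ![0, 0, 0, D / 4])
    let I₀ : (((Fin 3 ⊕ Fin 3) ⊕ Fin 2) → F) →ₗ[F] (Unit ⊕ (Fin 4 ⊕ Fin 4) → F) :=
      { toFun := fun v => Sum.elim (fun _ => v (.inr 0) + a / 2 * v (.inr 1))
          (Sum.elim ![v (.inl (.inl 0)), v (.inl (.inl 1)), v (.inl (.inl 2)), v (.inr 1)]
            ![v (.inl (.inr 0)), v (.inl (.inr 1)), v (.inl (.inr 2)), -(D / 4) * v (.inr 1)])
        map_add' := fun u v => by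
          funext j
          rcases j with _ | i | i
          · simp; ring
          · fin_cases i <;> simp
          · fin_cases i <;> simp <;> ring
        map_smul' := fun c v => by
          funext j
          rcases j with _ | i | i
          · simp; ring
          · fin_cases i <;> simp
          · fin_cases i <;> simp <;> ring }
    have hw₀ : oddQ 4 F w₀ = D / 4 := by
      simp [oddQ_apply, Cfsg.quadFormOdd, w₀, Fin.sum_univ_four]
    have hw₀ns : ¬ IsSquare (oddQ 4 F w₀) := by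
      rw [hw₀]
      rintro ⟨t, ht⟩
      exact hDns ⟨2 * t, by rw [div_eq_iff h4] at ht; linear_combination ht⟩
    refine perp_transport h2 (fun h => hw₀ns (h ▸ IsSquare.zero)) (fun h => hw (h ▸ IsSquare.zero))
      (isSquare_div_of_not hw hw₀ns) I₀ (fun v => ?_) fun x => ?_
    · simp [oddQ_apply, minusQ_apply, Cfsg.quadFormOdd, Cfsg.quadFormMinus, I₀, Fin.sum_univ_four, Fin.sum_univ_three,
        hD]
      field_simp
      ring
    · have hpol : QuadraticMap.polar (⇑(oddQ 4 F)) x w₀ = x (.inr (.inl 3)) * (D / 4) + x (.inr (.inr 3)) := by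
        simp [polar_odd, w₀, Fin.sum_univ_four]
      rw [hpol]
      constructor
      · intro h
        refine ⟨Sum.elim (Sum.elim (fun i => x (.inr (.inl i.castSucc))) (fun i => x (.inr (.inr i.castSucc))))
          ![x (.inl ()) - a / 2 * x (.inr (.inl 3)), x (.inr (.inl 3))], ?_⟩
        funext j
        rcases j with _ | i | i
        · simp [I₀]
        · fin_cases i <;> simp [I₀]
        · fin_cases i
          · simp [I₀]
          · simp [I₀]
          · simp [I₀]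
          · simp [I₀]; linear_combination -h
      · rintro ⟨v, rfl⟩
        simp [I₀]
        ring
  · let w₁ : Unit ⊕ (Fin 4 ⊕ Fin 4) → F := Sum.elim (fun _ => 1) (fun _ => 0)
    let J₀ : (Fin 4 ⊕ Fin 4 → F) →ₗ[F] (Unit ⊕ (Fin 4 ⊕ Fin 4) → F) :=
      { toFun := fun v => Sum.elim (fun _ => 0) v
        map_add' := fun u v => by funext j; rcases j with _ | i <;> simp
        map_smul' := fun c v => by funext j; rcases j with _ | i <;> simp }
    have hw₁ : oddQ 4 F w₁ = 1 := by simp [oddQ_apply, Cfsg.quadFormOdd, w₁]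
    refine perp_transport h2 (by rw [hw₁]; exact one_ne_zero) hw0 (by rw [hw₁, div_one]; exact hw) J₀
      (fun v => by simp [oddQ_apply, plusQ_apply, Cfsg.quadFormOdd, Cfsg.quadFormPlus, J₀]) fun x => ?_
    have hpol : QuadraticMap.polar (⇑(oddQ 4 F)) x w₁ = 2 * x (.inl ()) := by
      simp [polar_odd, w₁]
    rw [hpol, mul_eq_zero, or_iff_right h2]
    constructor
    · intro h
      exact ⟨fun i => x (.inr i), by funext j; rcases j with _ | i <;> simp [J₀, h]⟩
    · rintro ⟨v, rfl⟩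
      simp [J₀]

end CfsgLib.OmegaNine
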