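import Cfsg.Agent.OmegaNineSpectrum.Pieces
import Cfsg.Agent.OmegaNineSpectrum.Classify
import Cfsg.Agent.OmegaNineSpectrum.Fix
import Cfsg.Agent.Forms.OrthIndex

/-!
# The target element orders in an eight-dimensional space of minus type
-/

set_option autoImplicit false

namespace CfsgLib.OmegaNine

open Matrix Module Submodule QuadType OrthPrimePower CfsgLib.Spinor

variable {F : Type*} [Field F] [Fintype F] {ι : Type} [Fintype ι] [DecidableEq ι] {Q : QuadraticForm F (ι → F)}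

/-- The orders available in the extension of the natural module by `Ω`. -/
def Good (p : ℕ) (Q : QuadraticForm F (ι → F)) (n : ℕ) : Prop :=
  ∃ h ∈ Cfsg.Omega F ⇑Q, n ∣ orderOf h ∨
    (n ∣ p * orderOf h ∧ ∃ v, (∑ i ∈ Finset.range (orderOf h), act Q h ^ i) v ≠ 0)

theorem Good.of_dvd {p n m : ℕ} (h : Good p Q m) (hnm : n ∣ m) : Good p Q n := by
  obtain ⟨x, hx, h | ⟨h, hv⟩⟩ := h
  · exact ⟨x, hx, Or.inl (hnm.trans h)⟩
  · exact ⟨x, hx, Or.inr ⟨hnm.trans h, hv⟩⟩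

theorem not_dvd_of_dvd_pm {p q k a : ℕ} (hp : p.Prime) (hpq : p ∣ q) (hk : k ≠ 0) (hq : 2 ≤ q)
    (h : a ∣ q ^ k - 1 ∨ a ∣ q ^ k + 1) : ¬ p ∣ a := by
  intro hpa
  have hpk : p ∣ q ^ k := hpq.trans (dvd_pow_self q hk)
  rcases h with h | h
  · have h1 := Nat.dvd_sub hpk (hpa.trans h)
    rw [Nat.sub_sub_self (Nat.one_le_pow _ _ (by omega))] at h1
    exact hp.not_dvd_one h1
  · exact hp.not_dvd_one ((Nat.dvd_add_right hpk).1 (hpa.trans h))

variable (hQ : (QuadraticMap.polarBilin Q).Nondegenerate) (h2 : (2 : F) ≠ 0)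

include hQ h2

/-- A piece placed on a subspace of the same dimension and type. -/
theorem exists_piece_elem {k N : ℕ} {P : Prop} (hpc : HasPiece F (2 * k) N P) {A : Submodule F (ι → F)}
    (hA : Sep Q A) (hAd : finrank F A = 2 * k) (hAP : Plus Q A ↔ P) :
    ∃ g ∈ suppG Q A, orderOf g = N ∧ (mat Q g).det = 1 ∧ g ∉ Cfsg.Omega F ⇑Q := by
  obtain ⟨Qm, h, hnd, hP, ho, hdet, hΩ⟩ := hpc
  obtain ⟨e, he⟩ := iso_of_type (Q := Qm) (Q' := Q) k (QuadType.sep_top hnd) hA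
    (by rw [finrank_top, Module.finrank_fintype_fun_eq_card, Fintype.card_fin]) hAd (hP.trans hAP.symm)
  let I : (Fin (2 * k) → F) →ₗ[F] (ι → F) :=
    A.subtype ∘ₗ (Submodule.topEquiv.symm.trans e).toLinearMap
  obtain ⟨E⟩ := exists_emb (Q' := Qm) h2 hQ hnd I fun w => he ⟨w, Submodule.mem_top⟩
  have hr : LinearMap.range I = A := by
    rw [LinearMap.range_comp, LinearEquiv.range, Submodule.map_subtype_top]
  exact ⟨E.φ h, hr ▸ E.supp h, (orderOf_injective E.φ E.inj h).trans ho, (E.det_eq h).trans hdet,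
    fun hm => hΩ ((E.mem_omega h).1 hm)⟩

/-- Two special isometries outside `Ω` multiply into `Ω`. -/
theorem mul_mem_omega {g h : ↥(Cfsg.isometryGroup F ⇑Q)} (hg : (mat Q g).det = 1) (hh : (mat Q h).det = 1)
    (hgo : g ∉ Cfsg.Omega F ⇑Q) (hho : h ∉ Cfsg.Omega F ⇑Q) : g * h ∈ Cfsg.Omega F ⇑Q := by
  classical
  have hgen := fun x => Spinor.exists_isReflProd h2 hQ x
  have hpar : ∀ x : ↥(Cfsg.isometryGroup F ⇑Q), (mat Q x).det = 1 → Forms.parityHom hQ hgen x = 1 := fun x hx => by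
    obtain ⟨vs, hvs⟩ := hgen x
    rw [Forms.parityHom_eq hQ hgen hvs]
    rw [Forms.det_isReflProd hvs] at hx
    rcases Nat.even_or_odd vs.length with h | h
    · exact h.neg_one_pow
    · rw [h.neg_one_pow] at hx
      exact absurd (show (2 : F) = 0 by linear_combination -hx) h2
  have hspin : ∀ x : ↥(Cfsg.isometryGroup F ⇑Q), (mat Q x).det = 1 → x ∉ Cfsg.Omega F ⇑Q →
      Forms.spinHom hQ hgen x = -1 := fun x hx hxo => by
    rcases Int.units_eq_one_or (Forms.spinHom hQ hgen x) with h | h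
    · refine absurd ?_ hxo
      rw [Forms.omega_eq_ker hQ hgen h2, MonoidHom.mem_ker]
      exact Prod.ext (hpar x hx) h
    · exact h
  rw [Forms.omega_eq_ker hQ hgen h2, MonoidHom.mem_ker, map_mul]
  refine Prod.ext ?_ ?_
  · show Forms.parityHom hQ hgen g * Forms.parityHom hQ hgen h = 1
    rw [hpar g hg, hpar h hh, one_mul]
  · show Forms.spinHom hQ hgen g * Forms.spinHom hQ hgen h = 1
    rw [hspin g hg hgo, hspin h hh hho]; rfl

/-- Two pieces of arbitrary types when there is room left, of opposite types otherwise. -/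
theorem exists_two_pieces (hι : Fintype.card ι = 8) (hminus : ¬ Plus Q ⊤) {k1 k2 N1 N2 : ℕ} {P1 P2 : Prop}
    (hk1 : 0 < k1) (hk1' : k1 < 4) (hk2 : 0 < k2) (hk : k1 + k2 ≤ 4) (hP : k1 + k2 = 4 → ¬ (P1 ↔ P2))
    (h1 : HasPiece F (2 * k1) N1 P1) (h2' : HasPiece F (2 * k2) N2 P2) :
    ∃ (h : ↥(Cfsg.isometryGroup F ⇑Q)) (A D : Submodule F (ι → F)), h ∈ suppG Q A ∧ h ∈ Cfsg.Omega F ⇑Q ∧
      orderOf h = Nat.lcm N1 N2 ∧ (∀ a ∈ A, ∀ d ∈ D, QuadraticMap.polar (⇑Q) a d = 0) ∧ Sep Q D ∧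
      finrank F D = 8 - 2 * k1 - 2 * k2 := by
  classical
  have htop : finrank F (⊤ : Submodule F (ι → F)) = 8 := by
    rw [finrank_top, Module.finrank_fintype_fun_eq_card, hι]
  obtain ⟨A, -, hA, hAd, hAP⟩ := exists_sub_type k1 (QuadType.sep_top hQ) (by rw [htop]; omega) P1
    (fun e => absurd e hk1.ne')
  obtain ⟨C, -, hC, hAC, hsup, hdim, -⟩ := exists_perp (QuadType.sep_top hQ) hA le_top
  rw [htop, hAd] at hdim
  obtain ⟨B, hBC, hB, hBd, hBP⟩ : ∃ B, B ≤ C ∧ Sep Q B ∧ finrank F B = 2 * k2 ∧ (Plus Q B ↔ P2) := by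
    rcases hk.lt_or_eq with hlt | heq
    · exact exists_sub_type k2 hC (by omega) P2 (fun e => absurd e hk2.ne')
    · refine ⟨C, le_rfl, hC, by omega, ?_⟩
      have h := plus_sup_iff hA hC hAC (hAd ▸ even_two_mul k1) ⟨k2, by omega⟩
      rw [hsup, hAP] at h
      have := hP heq
      tauto
  obtain ⟨D, hDC, hD, hBD, -, hdim2, -⟩ := exists_perp hC hB hBC
  have hAB : ∀ a ∈ A, ∀ b ∈ B, QuadraticMap.polar (⇑Q) a b = 0 := fun a ha b hb => hAC a ha b (hBC hb)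
  obtain ⟨g1, hg1, ho1, hd1, hn1⟩ := exists_piece_elem hQ h2 h1 hA hAd hAP
  obtain ⟨g2, hg2, ho2, hd2, hn2⟩ := exists_piece_elem hQ h2 h2' hB hBd hBP
  refine ⟨g1 * g2, A ⊔ B, D, mul_mem (suppG_mono le_sup_left hg1) (suppG_mono le_sup_right hg2),
    mul_mem_omega hQ h2 hd1 hd2 hn1 hn2, by rw [orderOf_supp_mul hQ hg1 hg2 hAB (split_of_sep hQ hA), ho1, ho2],
    fun x hx d hd => ?_, hD, by omega⟩
  obtain ⟨a, ha, b, hb, rfl⟩ := Submodule.mem_sup.1 hx
  have ha' : QuadraticMap.polar (⇑Q) a d = 0 := hAC a ha d (hDC hd)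
  have hb' : QuadraticMap.polar (⇑Q) b d = 0 := hBD b hb d hd
  rw [QuadraticMap.polar_add_left, ha', hb', add_zero]

/-- Adding a regular unipotent part of dimension `p ^ c`, with its translation vector. -/
theorem exists_translate (p : ℕ) [Fact p.Prime] [CharP F p] (hp : Odd p) {A W : Submodule F (ι → F)}
    (hW : Sep Q W) {c M : ℕ} (hWd : finrank F W = p ^ c)
    (hAW : ∀ a ∈ A, ∀ w ∈ W, QuadraticMap.polar (⇑Q) a w = 0) {h0 : ↥(Cfsg.isometryGroup F ⇑Q)}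
    (hA : h0 ∈ suppG Q A) (hΩ : h0 ∈ Cfsg.Omega F ⇑Q) (hM : ¬ p ∣ M) (hMd : M ∣ orderOf h0)
    (hd : orderOf h0 ∣ M * p ^ c) :
    ∃ h ∈ suppG Q (A ⊔ W), h ∈ Cfsg.Omega F ⇑Q ∧ orderOf h = M * p ^ c ∧
      ∃ v ∈ W, (∑ i ∈ Finset.range (orderOf h), act Q h ^ i) v ≠ 0 := by
  obtain ⟨u, hu, huΩ, hupow, v, hv, hv0⟩ := exists_unipotent p h2 hp hQ hW hWd hp.pow
  have huc : u ^ p ^ c = 1 := hupow c le_rfl
  have hou : orderOf u = p ^ c := by
    refine Nat.dvd_antisymm (orderOf_dvd_of_pow_eq_one huc) ?_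
    rcases c with _ | c
    · simp
    · refine ppow_succ_dvd_orderOf p huc ?_ hv0
      have : p ^ c < p ^ (c + 1) := Nat.pow_lt_pow_right (Fact.out : p.Prime).one_lt (Nat.lt_succ_self c)
      omega
  have hWA : ∀ w ∈ W, ∀ a ∈ A, QuadraticMap.polar (⇑Q) w a = 0 := fun w hw a ha => by
    rw [QuadraticMap.polar_comm]; exact hAW a ha w hw
  have hord : orderOf (u * h0) = M * p ^ c := by
    rw [orderOf_supp_mul hQ hu hA hWA (split_of_sep hQ hW), hou]
    refine Nat.dvd_antisymm (Nat.lcm_dvd (dvd_mul_left _ _) hd) ?_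
    exact (((Fact.out : p.Prime).coprime_iff_not_dvd.2 hM).symm.pow_right c).mul_dvd_of_dvd_of_dvd
      (hMd.trans (Nat.dvd_lcm_right _ _)) (Nat.dvd_lcm_left _ _)
  refine ⟨u * h0, mul_mem (suppG_mono le_sup_right hu) (suppG_mono le_sup_left hA), mul_mem huΩ hΩ, hord, v, hv, ?_⟩
  have hcom := supp_commute hu hA hWA
  have hfix : act Q h0 v = v := hA v fun a ha => hWA v hv a ha
  have hpow : ∀ i, (act Q (u * h0) ^ i) v = (act Q u ^ i) v := fun i => by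
    rw [← map_pow, hcom.mul_pow, act_mul_apply, act_pow_fixed hfix, map_pow]
  rw [hord, LinearMap.sum_apply, Finset.sum_congr rfl fun i _ => hpow i, ← LinearMap.sum_apply,
    sum_apply_eq p _ c M v (by rw [← map_pow, huc, map_one]; rfl), ← Nat.cast_smul_eq_nsmul F]
  exact smul_ne_zero (fun h => hM ((CharP.cast_eq_zero_iff F p M).1 h)) hv0

/-- All targets are available. -/
theorem good_of_target (p : ℕ) [Fact p.Prime] [CharP F p] (hp : Odd p) (hι : Fintype.card ι = 8)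
    (hminus : ¬ Plus Q ⊤) {L c : ℕ} (hT : IsTarget p (Fintype.card F) L c) : Good p Q (L * p ^ c) := by
  classical
  have hpp : p.Prime := Fact.out
  set q := Fintype.card F with hq
  have hq1 : 1 < q := Fintype.one_lt_card
  have hqodd : Odd q := by
    obtain ⟨f, -, hf⟩ := FiniteField.card F p
    rw [hq, hf]; exact hp.pow
  have hpq : p ∣ q := by
    have h := FiniteField.cast_card_eq_zero F
    rwa [CharP.cast_eq_zero_iff F p] at h
  have hkpos := fun {k : ℕ} (hk : 0 < k) => piece_plus (F := F) p hqodd hk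
  have hkneg := fun {k : ℕ} (hk : 0 < k) => piece_minus (F := F) p hqodd hk
  have hlcm : ∀ {a b : ℕ}, ¬ p ∣ a → ¬ p ∣ b → ¬ p ∣ Nat.lcm a b := fun ha hb h =>
    (hpp.dvd_mul.1 (h.trans (Nat.lcm_dvd_mul _ _))).elim ha hb
  have hP1 : ∀ k, k ≠ 0 → ¬ p ∣ q ^ k - 1 := fun k hk => not_dvd_of_dvd_pm hpp hpq hk hq1 (Or.inl dvd_rfl)
  have hP2 : ∀ k, k ≠ 0 → ¬ p ∣ q ^ k + 1 := fun k hk => not_dvd_of_dvd_pm hpp hpq hk hq1 (Or.inr dvd_rfl)
  -- pieces plus a translation on an odd-dimensional part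
  have hgen : ∀ {A W : Submodule F (ι → F)} {h0 : ↥(Cfsg.isometryGroup F ⇑Q)} {e : ℕ}, Sep Q W →
      finrank F W = p ^ e → (∀ a ∈ A, ∀ w ∈ W, QuadraticMap.polar (⇑Q) a w = 0) → h0 ∈ suppG Q A →
      h0 ∈ Cfsg.Omega F ⇑Q → ¬ p ∣ orderOf h0 → L ∣ orderOf h0 → c = e + 1 → Good p Q (L * p ^ c) := by
    intro A W h0 e hW hWd hAW hA hΩ hnp hL hc
    obtain ⟨h, -, hhΩ, ho, v, -, hv⟩ :=
      exists_translate hQ h2 p hp hW hWd hAW hA hΩ hnp dvd_rfl (dvd_mul_right _ _)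
    refine ⟨h, hhΩ, Or.inr ⟨?_, v, hv⟩⟩
    rw [ho, hc, pow_succ, ← mul_assoc, mul_comm p (orderOf h0 * p ^ e)]
    exact mul_dvd_mul_right (mul_dvd_mul_right hL _) _
  obtain ⟨r, hr⟩ := hqodd
  rcases hT with ⟨rfl, hL⟩ | ⟨rfl, hL⟩ | ⟨rfl, rfl, hL⟩ | ⟨rfl, rfl, hL⟩
  · rw [pow_zero, mul_one]
    rcases hL with rfl | rfl | rfl
    · obtain ⟨h, A, D, -, hΩ, ho, -⟩ := exists_two_pieces hQ h2 hι hminus (k1 := 2) (k2 := 2) (by norm_num)
        (by norm_num) (by norm_num) le_rfl (fun _ h => h.2 trivial) (hkneg (by norm_num)) (hkpos (by norm_num))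
      exact ⟨h, hΩ, Or.inl ho.symm.dvd⟩
    · obtain ⟨h, A, D, -, hΩ, ho, -⟩ := exists_two_pieces hQ h2 hι hminus (k1 := 3) (k2 := 1) (by norm_num)
        (by norm_num) (by norm_num) le_rfl (fun _ h => h.1 trivial) (hkpos (by norm_num)) (hkneg (by norm_num))
      rw [pow_one] at ho
      exact ⟨h, hΩ, Or.inl ho.symm.dvd⟩
    · obtain ⟨h, A, D, -, hΩ, ho, -⟩ := exists_two_pieces hQ h2 hι hminus (k1 := 3) (k2 := 1) (by norm_num)
        (by norm_num) (by norm_num) le_rfl (fun _ h => h.2 trivial) (hkneg (by norm_num)) (hkpos (by norm_num))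
      rw [pow_one] at ho
      exact ⟨h, hΩ, Or.inl ho.symm.dvd⟩
  · have hpart : ∀ {N1 N2 : ℕ} {P1 P2 : Prop}, HasPiece F (2 * 2) N1 P1 → HasPiece F (2 * 1) N2 P2 →
        ¬ p ∣ N1 → ¬ p ∣ N2 → L ∣ Nat.lcm N1 N2 → Good p Q (L * p ^ 1) := by
      intro N1 N2 P1 P2 h1 h2' hn1 hn2 hdvd
      obtain ⟨h, A, D, hA, hΩ, ho, hAD, hD, hDd⟩ := exists_two_pieces hQ h2 hι hminus (k1 := 2) (k2 := 1)
        (by norm_num) (by norm_num) (by norm_num) (by norm_num) (by norm_num) h1 h2'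
      obtain ⟨W, hWD, hW, hWd⟩ := exists_sep_pred h2 hD (j := 1) (by rw [hDd]) le_rfl
      exact hgen (e := 0) hW (by rw [hWd, pow_zero]) (fun a ha w hw => hAD a ha w (hWD hw)) hA hΩ
        (ho ▸ hlcm hn1 hn2) (ho ▸ hdvd) rfl
    rcases hL with rfl | rfl | rfl
    · exact hpart (hkneg (by norm_num)) (hkpos (by norm_num)) (hP2 2 (by norm_num)) (hP1 1 (by norm_num))
        (by rw [pow_one])
    · exact hpart (hkneg (by norm_num)) (hkneg (by norm_num)) (hP2 2 (by norm_num)) (hP2 1 (by norm_num))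
        (by rw [pow_one])
    · exact hpart (hkpos (by norm_num)) (hkpos (by norm_num)) (hP1 2 (by norm_num)) (hP1 1 (by norm_num))
        (Nat.dvd_lcm_left _ _)
  · -- `p = 3`
    obtain ⟨h, A, D, hA, hΩ, ho, hAD, hD, hDd⟩ := exists_two_pieces hQ h2 hι hminus (k1 := 1) (k2 := 1)
      (by norm_num) (by norm_num) (by norm_num) (by norm_num) (by norm_num) (hkpos (by norm_num)) (hkneg (by norm_num))
    obtain ⟨W, hWD, hW, hWd⟩ := exists_sep_pred h2 hD (j := 3) (by rw [hDd]) (by norm_num)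
    refine hgen (e := 1) hW (by rw [hWd, pow_one]) (fun a ha w hw => hAD a ha w (hWD hw)) hA hΩ
      (ho ▸ hlcm (hP1 1 (by norm_num)) (hP2 1 (by norm_num))) ?_ rfl
    rw [ho, hL, pow_one]
    have hg : Nat.gcd (q - 1) (q + 1) ∣ 2 := by
      have h := Nat.dvd_sub (Nat.gcd_dvd_right (q - 1) (q + 1)) (Nat.gcd_dvd_left (q - 1) (q + 1))
      rwa [show q + 1 - (q - 1) = 2 by omega] at h
    have hmul : 2 * ((q ^ 2 - 1) / 2) ∣ 2 * Nat.lcm (q - 1) (q + 1) := by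
      rw [show 2 * ((q ^ 2 - 1) / 2) = (q - 1) * (q + 1) by
        rw [hr, show (2 * r + 1) ^ 2 = 4 * (r * (r + 1)) + 1 by ring, Nat.add_sub_cancel, Nat.add_sub_cancel,
          show 4 * (r * (r + 1)) / 2 = 2 * (r * (r + 1)) by omega]
        ring, ← Nat.gcd_mul_lcm (q - 1) (q + 1)]
      exact mul_dvd_mul_right hg _
    exact Nat.dvd_of_mul_dvd_mul_left two_pos hmul
  · -- `p = 5`
    obtain ⟨N, P, hpc, hN, hpN⟩ : ∃ N P, HasPiece F (2 * 1) N P ∧ 4 ∣ N ∧ ¬ 5 ∣ N := by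
      rcases (show q % 4 = 1 ∨ q % 4 = 3 by omega) with h | h
      · exact ⟨_, _, hkpos one_pos, by rw [pow_one]; omega, hP1 1 one_ne_zero⟩
      · exact ⟨_, _, hkneg one_pos, by rw [pow_one]; omega, hP2 1 one_ne_zero⟩
    have htop : finrank F (⊤ : Submodule F (ι → F)) = 8 := by
      rw [finrank_top, Module.finrank_fintype_fun_eq_card, hι]
    obtain ⟨A, -, hA, hAd, hAP⟩ := exists_sub_type 1 (QuadType.sep_top hQ) (by rw [htop]; norm_num) P
      (fun e => absurd e one_ne_zero)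
    obtain ⟨D, -, hD, hAD, -, hdim, -⟩ := exists_perp (QuadType.sep_top hQ) hA le_top
    rw [htop, hAd] at hdim
    obtain ⟨W, hWD, hW, hWd⟩ := exists_sep_pred h2 hD (j := 5) (by omega) (by norm_num)
    obtain ⟨g, hg, ho, -, -⟩ := exists_piece_elem hQ h2 hpc hA hAd hAP
    obtain ⟨t, ht⟩ := hN
    have ho2 : orderOf (g ^ 2) = 2 * t := by
      rw [orderOf_pow_of_dvd two_ne_zero (ho ▸ ⟨2 * t, by omega⟩), ho]; omega
    refine hgen (e := 1) hW (by rw [hWd, pow_one]) (fun a ha w hw => hAD a ha w (hWD hw)) (pow_mem hg 2)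
      (PrimeGraphBC.sq_mem_omega h2 hQ g) ?_ ?_ rfl
    · rw [ho2]; omega
    · rw [ho2, hL]; exact dvd_mul_right _ _

end CfsgLib.OmegaNine
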