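import Cfsg.Agent.OmegaNineSpectrum.Basic
import Cfsg.Agent.UnipotentForms.SpClasses

/-!
# Regular unipotent isometries in odd dimension and geometric sums in characteristic `p`
-/

set_option autoImplicit false

namespace CfsgLib.OmegaNine

open Matrix Module Polynomial CfsgLib.Spinor CfsgLib.UnipotentForms CfsgLib.UnipotentJordan

variable {F : Type*} [Field F] {ι : Type} [Fintype ι] [DecidableEq ι]
  {Q : QuadraticForm F (ι → F)} {V : Type*} [AddCommGroup V] [Module F V]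

theorem sum_range_mul' {R : Type*} [Semiring R] (T : R) (P : ℕ) :
    ∀ M, ∑ i ∈ Finset.range (M * P), T ^ i = (∑ j ∈ Finset.range M, T ^ (j * P)) * ∑ i ∈ Finset.range P, T ^ i
  | 0 => by simp
  | M + 1 => by
    rw [Nat.succ_mul, Finset.sum_range_add, sum_range_mul' T P M, Finset.sum_range_succ, add_mul]
    congr 1
    rw [Finset.mul_sum]
    exact Finset.sum_congr rfl fun i _ => pow_add _ _ _

section CharP

variable (p : ℕ) [Fact p.Prime] [CharP F p]

theorem poly_sub_pow (c : ℕ) : ((X : F[X]) - 1) ^ p ^ c = X ^ p ^ c - 1 := by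
  rw [sub_pow_char_pow, one_pow]

theorem sub_one_pow_ppow (T : Module.End F V) (c : ℕ) : (T - 1) ^ p ^ c = T ^ p ^ c - 1 := by
  simpa using congrArg (aeval T) (poly_sub_pow (F := F) p c)

theorem sum_ppow (T : Module.End F V) (c : ℕ) :
    ∑ i ∈ Finset.range (p ^ c), T ^ i = (T - 1) ^ (p ^ c - 1) := by
  have h : ∑ i ∈ Finset.range (p ^ c), (X : F[X]) ^ i = (X - 1) ^ (p ^ c - 1) := by
    refine mul_right_cancel₀ (show (X : F[X]) - 1 ≠ 0 from by simpa using Polynomial.X_sub_C_ne_zero (1 : F)) ?_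
    rw [geom_sum_mul, ← pow_succ, Nat.sub_add_cancel (Nat.one_le_pow _ _ (Fact.out : p.Prime).pos),
      poly_sub_pow]
  simpa using congrArg (aeval T) h

/-- The norm of an element of order `M * p ^ c` on a vector fixed by its `p ^ c`-th power. -/
theorem sum_apply_eq (T : Module.End F V) (c M : ℕ) (v : V) (hv : (T ^ p ^ c) v = v) :
    (∑ i ∈ Finset.range (M * p ^ c), T ^ i) v = M • (((T - 1) ^ (p ^ c - 1)) v) := by
  rw [sum_range_mul', sum_ppow p, Module.End.mul_apply, LinearMap.sum_apply]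
  set z := ((T - 1) ^ (p ^ c - 1)) v with hz
  have hfix : ∀ j : ℕ, (T ^ (j * p ^ c)) z = z := by
    intro j
    induction j with
    | zero => rw [Nat.zero_mul, pow_zero]; rfl
    | succ j ih =>
      have h1 : (T ^ p ^ c) z = z := by
        rw [hz, ← Module.End.mul_apply, ((Commute.refl T).pow_left _ |>.sub_right (Commute.one_right _)).pow_right _ |>.eq,
          Module.End.mul_apply, hv]
      rw [Nat.succ_mul, pow_add, Module.End.mul_apply, h1, ih]
  rw [Finset.sum_congr rfl fun j _ => hfix j, Finset.sum_const, Finset.card_range]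

theorem nil_iff_pow [FiniteDimensional F V] (T : Module.End F V) :
    IsNilpotent (T - 1) ↔ ∃ c, T ^ p ^ c = 1 := by
  constructor
  · rintro ⟨d, hd⟩
    obtain ⟨c, hc⟩ : ∃ c, d ≤ p ^ c := ⟨d, (Nat.lt_pow_self (Fact.out : p.Prime).one_lt).le⟩
    exact ⟨c, by rw [← sub_eq_zero, ← sub_one_pow_ppow p, pow_eq_zero_of_le hc hd]⟩
  · rintro ⟨c, hc⟩
    exact ⟨p ^ c, by rw [sub_one_pow_ppow p, hc, sub_self]⟩

/-- Unipotent isometries lie in `Ω`. -/
theorem mem_omega_of_nil [Fintype F] (h2 : (2 : F) ≠ 0) (hp : Odd p) (hQ : (QuadraticMap.polarBilin Q).Nondegenerate)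
    {g : ↥(Cfsg.isometryGroup F ⇑Q)} (h : IsNilpotent (act Q g - 1)) : g ∈ Cfsg.Omega F ⇑Q := by
  obtain ⟨c, hc⟩ := (nil_iff_pow p (act Q g)).1 h
  refine PrimeGraphBC.odd_mem_omega h2 hQ (Odd.of_dvd_nat hp.pow (orderOf_dvd_of_pow_eq_one (n := p ^ c) ?_))
  exact act_injective (by rw [map_pow, hc, map_one])

end CharP

/-- A regular unipotent isometry in odd dimension. -/
theorem exists_regular [Fintype F] (h2 : (2 : F) ≠ 0) (hQ : (QuadraticMap.polarBilin Q).Nondegenerate) {k : ℕ}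
    (hk : Fintype.card ι = k) (hodd : Odd k) :
    ∃ g : ↥(Cfsg.isometryGroup F ⇑Q), IsNilpotent (act Q g - 1) ∧ (act Q g - 1) ^ k = 0 ∧
      ∃ v, ((act Q g - 1) ^ (k - 1)) v ≠ 0 := by
  obtain ⟨n, H, U, ⟨hHT, -, hHu⟩, hU, -, hr⟩ := occ_single_symm (F := F) h2 hodd
  rw [one_smul] at hHT
  have hn : n = k := by simpa using hr 0
  subst hn
  let e : Fin n ≃ ι := (finCongr hk.symm).trans (Fintype.equivFin ι).symm
  set H' := Matrix.reindex e e H with hH'
  set U' := Matrix.reindex e e U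
  set G := FormDiscr.gram Q with hG
  have hGT : Gᵀ = G := by
    ext i j
    exact QuadraticMap.polar_comm _ _ _
  have hGd : G.det ≠ 0 := FormDiscr.gram_det_ne_zero Q hQ
  have hH'u : IsUnit H' := hHu.map (Matrix.reindexAlgEquiv F F e)
  have hd : H'.det ≠ 0 := ((Matrix.isUnit_iff_isUnit_det _).1 hH'u).ne_zero
  set c := H'.det * G.det with hc
  have hc0 : c ≠ 0 := mul_ne_zero hd hGd
  obtain ⟨P, hP, hPH⟩ := exists_congr_symm h2 (A := c • H') (B := G)
    (by rw [Matrix.transpose_smul, Matrix.transpose_reindex, hHT]) hGT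
    (by rw [Matrix.isUnit_iff_isUnit_det, Matrix.det_smul, isUnit_iff_ne_zero]
        exact mul_ne_zero (pow_ne_zero _ hc0) hd)
    ((Matrix.isUnit_iff_isUnit_det _).2 hGd.isUnit) (by
      obtain ⟨i, hi⟩ := hodd
      rw [Matrix.det_smul, hk, hi, mul_assoc, ← hc, ← pow_succ]
      exact ⟨c ^ (i + 1), by ring⟩)
  obtain ⟨P, rfl⟩ := hP
  let Pi' : Matrix ι ι F := ((P⁻¹ : (Matrix ι ι F)ˣ) : Matrix ι ι F)
  have hU' : U'ᵀ * (c • H') * U' = c • H' := by
    rw [Matrix.mul_smul, Matrix.smul_mul, isometry_reindex e hU]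
  set X : Matrix ι ι F := Pi' * U' * (P : Matrix ι ι F) with hX
  have hXG : Xᵀ * G * X = G := by
    rw [← hPH, hX, Matrix.transpose_mul, Matrix.transpose_mul]
    have h1 : (P : Matrix ι ι F) * Pi' = 1 := P.mul_inv
    have h3 : Pi'ᵀ * (P : Matrix ι ι F)ᵀ = 1 := by rw [← Matrix.transpose_mul, h1, Matrix.transpose_one]
    calc (P : Matrix ι ι F)ᵀ * (U'ᵀ * Pi'ᵀ) * ((P : Matrix ι ι F)ᵀ * (c • H') * P) * (Pi' * U' * P)
        = (P : Matrix ι ι F)ᵀ * U'ᵀ * (Pi'ᵀ * (P : Matrix ι ι F)ᵀ) * (c • H') *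
            ((P : Matrix ι ι F) * Pi') * U' * P := by simp only [mul_assoc]
      _ = (P : Matrix ι ι F)ᵀ * (U'ᵀ * (c • H') * U') * P := by rw [h1, h3]; simp [mul_assoc]
      _ = _ := by rw [hU']
  have hrX : ∀ i, ((X - 1) ^ i).rank = n - i := by
    intro i
    have hc : IsConj (U' - 1) (X - 1) := by
      refine ⟨P⁻¹, ?_⟩
      show Pi' * (U' - 1) = (X - 1) * Pi'
      rw [mul_sub, sub_mul, mul_one, one_mul, hX, mul_assoc (Pi' * U'), Units.mul_inv, mul_one]
    rw [← rank_pow_eq_of_isConj hc, show U' - 1 = Matrix.reindex e e (U - 1) by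
      rw [← Matrix.coe_reindexAlgEquiv F F, map_sub, map_one]; rfl, rank_reindex_pow, hr]
    simp
  obtain ⟨g, hg⟩ := PrimeGraphBC.exists_iso_of_form h2 hQ hXG
  have hact : ∀ i, (act Q g - 1) ^ i = Matrix.toLinAlgEquiv' ((X - 1) ^ i) := fun i => by
    rw [map_pow, map_sub, map_one, ← hg]; rfl
  have h0 : (act Q g - 1) ^ n = 0 := by
    rw [hact, eq_zero_of_rank (A := (X - 1) ^ n) (by rw [hrX]; omega), map_zero]
  refine ⟨g, ⟨n, h0⟩, h0, ?_⟩
  by_contra hall
  push Not at hall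
  have h1 : (X - 1) ^ (n - 1) = 0 :=
    Matrix.toLinAlgEquiv'.injective (by rw [map_zero, ← hact]; exact LinearMap.ext hall)
  have h3 := hrX (n - 1)
  rw [h1, Matrix.rank_zero] at h3
  obtain ⟨i, hi⟩ := hodd
  omega

end CfsgLib.OmegaNine
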